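import Mathlib
import Cfsg.Agent.Lib.Frobenius.UniqueSubgroup
import Cfsg.Agent.Lib.SmallElements

/-!
Noncyclic abelian subgroups of order eight.
-/

set_option autoImplicit false

namespace CfsgLib.EightAbelian

universe u

variable {P : Type u} [Group P]

/-- `R` contains a noncyclic abelian subgroup of order eight. -/
def Has8 (R : Subgroup P) : Prop :=
  ∃ A : Subgroup P, A ≤ R ∧ IsMulCommutative ↥A ∧ ¬ IsCyclic ↥A ∧ Nat.card ↥A = 8

theorem Has8.mono {R R' : Subgroup P} (h : Has8 R) (hle : R ≤ R') : Has8 R' := by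
  obtain ⟨A, hA, h1, h2, h3⟩ := h
  exact ⟨A, hA.trans hle, h1, h2, h3⟩

/-- A subgroup together with an outer element normalizing it and squaring into it. -/
theorem double [Finite P] (V : Subgroup P) {y : P} (hy : y ∉ V) (hn : ∀ v ∈ V, y * v * y⁻¹ ∈ V) (h2 : y * y ∈ V) :
    ∃ W : Subgroup P, (∀ g : P, g ∈ W ↔ g ∈ V ∨ y⁻¹ * g ∈ V) ∧ Nat.card W = 2 * Nat.card V := by
  have hn' : ∀ v ∈ V, y⁻¹ * v * y ∈ V := fun v hv => by
    have h1 := V.mul_mem (V.mul_mem (V.inv_mem h2) (hn v hv)) h2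
    have e : (y * y)⁻¹ * (y * v * y⁻¹) * (y * y) = y⁻¹ * v * y := by group
    rwa [e] at h1
  refine ⟨{ carrier := {g | g ∈ V ∨ y⁻¹ * g ∈ V}
            one_mem' := Or.inl V.one_mem
            mul_mem' := ?_
            inv_mem' := ?_ }, fun g => Iff.rfl, ?_⟩
  · rintro a b (ha | ha) (hb | hb)
    · exact Or.inl (V.mul_mem ha hb)
    · refine Or.inr ?_
      have h1 := V.mul_mem (hn' a ha) hb
      have e : y⁻¹ * a * y * (y⁻¹ * b) = y⁻¹ * (a * b) := by group
      rwa [e] at h1
    · refine Or.inr ?_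
      have h1 := V.mul_mem ha hb
      rwa [mul_assoc] at h1
    · refine Or.inl ?_
      have h1 := V.mul_mem (V.mul_mem (hn _ ha) h2) hb
      have e : y * (y⁻¹ * a) * y⁻¹ * (y * y) * (y⁻¹ * b) = a * b := by group
      rwa [e] at h1
  · rintro a (ha | ha)
    · exact Or.inl (V.inv_mem ha)
    · refine Or.inr ?_
      have h1 := V.mul_mem (hn' _ (V.inv_mem ha)) (V.inv_mem h2)
      have e : y⁻¹ * (y⁻¹ * a)⁻¹ * y * (y * y)⁻¹ = y⁻¹ * a⁻¹ := by group
      rwa [e] at h1
  · show Nat.card {g : P // g ∈ V ∨ y⁻¹ * g ∈ V} = _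
    classical
    have hbij : Function.Bijective (fun x : Bool × V => (⟨if x.1 then y * (x.2 : P) else x.2, by
        cases x.1
        · exact Or.inl x.2.2
        · exact Or.inr (by simp)⟩ : {g : P // g ∈ V ∨ y⁻¹ * g ∈ V})) := by
      constructor
      · rintro ⟨b, v⟩ ⟨b', v'⟩ h
        have h' := congrArg Subtype.val h
        cases b <;> cases b' <;> simp only [Bool.false_eq_true, if_false, if_true] at h'
        · rw [Subtype.ext h']
        · exact absurd ((mul_inv_cancel_right y (v' : P)).symm ▸ V.mul_mem (h' ▸ v.2) (V.inv_mem v'.2)) hy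
        · exact absurd ((mul_inv_cancel_right y (v : P)).symm ▸ V.mul_mem (h'.symm ▸ v'.2) (V.inv_mem v.2)) hy
        · rw [Subtype.ext (mul_left_cancel h')]
      · rintro ⟨g, hg | hg⟩
        · exact ⟨(false, ⟨g, hg⟩), rfl⟩
        · exact ⟨(true, ⟨_, hg⟩), Subtype.ext (by simp)⟩
    rw [← Nat.card_eq_of_bijective _ hbij, Nat.card_prod]
    simp

/-- A four subgroup with a further element centralizing it and squaring into it. -/
theorem has8_of_four [Finite P] {R V : Subgroup P} (hV : IsMulCommutative ↥V) (h4 : Nat.card V = 4)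
    (he : ∀ v ∈ V, v * v = 1) {x : P} (hx : x ∉ V) (hc : ∀ v ∈ V, Commute x v) (h2 : x * x ∈ V) (hVR : V ≤ R)
    (hxR : x ∈ R) : Has8 R := by
  obtain ⟨W, hW, hcard⟩ := double V hx (fun v hv => by rw [(hc v hv).eq, mul_inv_cancel_right]; exact hv) h2
  refine ⟨W, fun g hg => ?_, ⟨⟨fun a b => Subtype.ext ?_⟩⟩, fun hcy => ?_, by rw [hcard, h4]⟩
  · rcases (hW g).mp hg with h | h
    · exact hVR h
    · have := R.mul_mem hxR (hVR h)
      rwa [mul_inv_cancel_left] at this
  · have hV' : ∀ u ∈ V, ∀ w ∈ V, Commute u w := fun u hu w hw =>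
      congrArg Subtype.val (hV.is_comm.comm (⟨u, hu⟩ : V) ⟨w, hw⟩)
    have hWd : ∀ g ∈ W, ∀ v ∈ V, Commute g v := by
      intro g hg v hv
      rcases (hW g).mp hg with h | h
      · exact hV' g h v hv
      · have := (hc v hv).mul_left (hV' _ h v hv)
        rwa [mul_inv_cancel_left] at this
    show (a : P) * b = b * a
    rcases (hW a).mp a.2 with h | h
    · exact ((hWd b b.2 a h).symm).eq
    · have h1 : Commute (b : P) (x⁻¹ * a) := hWd b b.2 _ h
      have h3 : Commute (b : P) x := by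
        rcases (hW b).mp b.2 with h' | h'
        · exact (hc b h').symm
        · have := ((Commute.refl x).mul_right (hc _ h')).symm
          rwa [mul_inv_cancel_left] at this
      have := h3.mul_right h1
      rw [mul_inv_cancel_left] at this
      exact this.eq.symm
  · haveI := hcy
    have hVW : V ≤ W := fun v hv => (hW v).mpr (Or.inl hv)
    haveI : IsCyclic (V.subgroupOf W) := Subgroup.isCyclic _
    haveI hcV : IsCyclic V := isCyclic_of_surjective (Subgroup.subgroupOfEquivOfLe hVW)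
      (Subgroup.subgroupOfEquivOfLe hVW).surjective
    obtain ⟨g, hg⟩ := hcV.exists_generator
    have h1 : orderOf g ∣ 2 := orderOf_dvd_of_pow_eq_one (Subtype.ext (by simpa [pow_two] using he g g.2))
    have h2' := Nat.le_of_dvd two_pos h1
    have h3 : Nat.card V = orderOf g := (orderOf_eq_card_of_forall_mem_zpowers hg).symm
    omega

/-- The four subgroup generated by two commuting involutions. -/
theorem four_mk [Finite P] {a b : P} (ha : a * a = 1) (hb : b * b = 1) (ha1 : a ≠ 1) (hb1 : b ∉ Subgroup.zpowers a)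
    (hab : Commute a b) :
    ∃ V : Subgroup P, IsMulCommutative ↥V ∧ Nat.card V = 4 ∧ (∀ v ∈ V, v * v = 1) ∧
      (∀ v, v ∈ V ↔ v = 1 ∨ v = a ∨ v = b ∨ v = b * a) := by
  have hz : ∀ g, g ∈ Subgroup.zpowers a ↔ g = 1 ∨ g = a := by
    intro g
    constructor
    · rintro ⟨i, rfl⟩
      have h2 : a ^ (2 : ℤ) = 1 := by rw [zpow_two, ha]
      rcases Int.even_or_odd i with ⟨k, rfl⟩ | ⟨k, rfl⟩
      · left; show a ^ (k + k) = 1
        rw [← two_mul, zpow_mul, h2, one_zpow]
      · right; show a ^ (2 * k + 1) = a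
        rw [zpow_add, zpow_mul, h2, one_zpow, one_mul, zpow_one]
    · rintro (rfl | rfl)
      · exact one_mem _
      · exact Subgroup.mem_zpowers _
  obtain ⟨V, hV, hcard⟩ := double (Subgroup.zpowers a) hb1 (fun v hv => by
    rw [show b * v = v * b by rcases (hz v).mp hv with rfl | rfl <;> simp [hab.eq], mul_inv_cancel_right]; exact hv)
    (by rw [hb]; exact one_mem _)
  have hmem : ∀ v, v ∈ V ↔ v = 1 ∨ v = a ∨ v = b ∨ v = b * a := by
    intro v
    rw [hV, hz, hz, inv_mul_eq_iff_eq_mul, inv_mul_eq_iff_eq_mul, mul_one, or_assoc]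
  refine ⟨V, ⟨⟨fun x y => Subtype.ext ?_⟩⟩, ?_, ?_, hmem⟩
  · show (x : P) * y = y * x
    have h1 : Commute a (b * a) := hab.mul_right (Commute.refl a)
    have h2 : Commute b (b * a) := (Commute.refl b).mul_right hab.symm
    rcases (hmem x).mp x.2 with e | e | e | e <;> rcases (hmem y).mp y.2 with e' | e' | e' | e' <;> rw [e, e'] <;>
      first | simp | exact hab.eq | exact hab.eq.symm | exact h1.eq | exact h1.eq.symm | exact h2.eq | exact h2.eq.symm
  · rw [hcard, Nat.card_zpowers, orderOf_eq_prime (p := 2) (by rw [pow_two, ha]) ha1]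
  · intro v hv
    rcases (hmem v).mp hv with e | e | e | e <;> rw [e]
    · simp
    · exact ha
    · exact hb
    · rw [mul_assoc, ← mul_assoc a b a, hab.eq, mul_assoc b a a, ha, mul_one, hb]

/-- An element of order four and an involution outside its cyclic group, commuting. -/
theorem has8_of_pair [Finite P] {R : Subgroup P} {d t : P} (hd : d * d ≠ 1) (hd4 : d * d * (d * d) = 1)
    (ht : t * t = 1) (htd : t ∉ Subgroup.zpowers d) (hc : Commute d t) (hdR : d ∈ R) (htR : t ∈ R) : Has8 R := by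
  have hle : Subgroup.zpowers (d * d) ≤ Subgroup.zpowers d :=
    Subgroup.zpowers_le.mpr (mul_mem (Subgroup.mem_zpowers d) (Subgroup.mem_zpowers d))
  obtain ⟨V, hVc, h4, he, hmem⟩ := four_mk hd4 ht hd (fun h => htd (hle h)) (hc.mul_left hc)
  have hddR : d * d ∈ R := R.mul_mem hdR hdR
  refine has8_of_four hVc h4 he (fun h => ?_) (fun v hv => ?_) ((hmem _).mpr (Or.inr (Or.inl rfl))) (fun v hv => ?_) hdR
  · have := he d h; exact hd this
  · rcases (hmem v).mp hv with e | e | e | e <;> rw [e]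
    · exact Commute.one_right d
    · exact (Commute.refl d).mul_right (Commute.refl d)
    · exact hc
    · exact hc.mul_right ((Commute.refl d).mul_right (Commute.refl d))
  · rcases (hmem v).mp hv with e | e | e | e <;> rw [e]
    exacts [R.one_mem, hddR, htR, R.mul_mem htR hddR]

/-- An element outside a subgroup has a power outside it whose square is inside. -/
theorem exists_step (hP : IsPGroup 2 P) (N : Subgroup P) {g : P} (hg : g ∉ N) :
    ∃ k : ℕ, g ^ k ∉ N ∧ g ^ k * g ^ k ∈ N := by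
  classical
  obtain ⟨n, hn⟩ := hP g
  have hex : ∃ j : ℕ, g ^ (2 ^ j) ∈ N := ⟨n, by rw [hn]; exact one_mem _⟩
  have hpos : 0 < Nat.find hex := by
    by_contra h
    have h0 : Nat.find hex = 0 := by omega
    have := Nat.find_spec hex
    rw [h0] at this
    simp at this
    exact hg this
  refine ⟨2 ^ (Nat.find hex - 1), Nat.find_min hex (by omega), ?_⟩
  rw [← pow_add, ← two_mul, ← pow_succ', show Nat.find hex - 1 + 1 = Nat.find hex by omega]
  exact Nat.find_spec hex

/-- An abelian noncyclic subgroup is a four group or contains a noncyclic subgroup of order eight. -/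
theorem four_or_has8 [Finite P] (hP : IsPGroup 2 P) {B : Subgroup P} (hB : IsMulCommutative ↥B) (hnc : ¬ IsCyclic ↥B) :
    (Nat.card B = 4 ∧ ∀ b ∈ B, b * b = 1) ∨ Has8 B := by
  haveI : Fact (Nat.Prime 2) := ⟨Nat.prime_two⟩
  haveI := hB
  have hbc : ∀ x ∈ B, ∀ y ∈ B, Commute x y := fun x hx y hy =>
    congrArg Subtype.val (hB.is_comm.comm (⟨x, hx⟩ : B) ⟨y, hy⟩)
  have hu : ¬ CfsgLib.Frob.UniqSub 2 B := fun h => hnc (h.cyclic_of_comm (hP.to_subgroup B))
  obtain ⟨a, b, ha, hb, ha1, hb1, haB, hbB⟩ : ∃ a b : P, a * a = 1 ∧ b * b = 1 ∧ a ≠ 1 ∧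
      b ∉ Subgroup.zpowers a ∧ a ∈ B ∧ b ∈ B := by
    unfold CfsgLib.Frob.UniqSub at hu
    push Not at hu
    obtain ⟨H, K, hH, hK, hne⟩ := hu
    have key : ∀ L : Subgroup B, Nat.card L = 2 → ∃ a : B, L = Subgroup.zpowers a ∧ a ≠ 1 ∧ a * a = 1 := by
      intro L hL
      obtain ⟨a, ha, -⟩ := (Nat.card_eq_two_iff' (1 : L)).mp hL
      have h2 : a * a = 1 := by
        have : a ^ Nat.card L = 1 := pow_card_eq_one'
        rwa [hL, pow_two] at this
      have ha' : (a : B) ≠ 1 := fun e => ha (Subtype.ext e)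
      refine ⟨a, (Subgroup.eq_of_le_of_card_ge (Subgroup.zpowers_le.mpr a.2) ?_).symm, ha', congrArg Subtype.val h2⟩
      rw [hL, Nat.card_zpowers, orderOf_eq_prime (p := 2) (by rw [pow_two]; exact congrArg Subtype.val h2) ha']
    obtain ⟨a, rfl, ha1, ha⟩ := key H hH
    obtain ⟨b, rfl, hb1, hb⟩ := key K hK
    refine ⟨a, b, congrArg Subtype.val ha, congrArg Subtype.val hb, fun e => ha1 (Subtype.ext e), fun hmem => ?_, a.2, b.2⟩
    obtain ⟨i, hi⟩ := hmem
    have hbm : b ∈ Subgroup.zpowers a := ⟨i, Subtype.ext (by simpa using hi)⟩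
    exact hne (Subgroup.eq_of_le_of_card_ge (Subgroup.zpowers_le.mpr hbm) (by rw [hH, hK])).symm
  obtain ⟨V, hVc, h4, he, hmem⟩ := four_mk ha hb ha1 hb1 (hbc a haB b hbB)
  have hVB : V ≤ B := fun v hv => by
    rcases (hmem v).mp hv with e | e | e | e <;> rw [e]
    exacts [B.one_mem, haB, hbB, B.mul_mem hbB haB]
  by_cases hBV : B ≤ V
  · rw [le_antisymm hBV hVB]; exact Or.inl ⟨h4, he⟩
  · right
    obtain ⟨g, hgB, hgV⟩ := SetLike.not_le_iff_exists.mp hBV
    obtain ⟨k, hk1, hk2⟩ := exists_step hP V hgV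
    exact has8_of_four hVc h4 he hk1 (fun v hv => hbc _ (B.pow_mem hgB k) v (hVB hv)) hk2 hVB (B.pow_mem hgB k)

theorem eq_top_of_card [Finite P] {K : Subgroup P} (h : Nat.card P ≤ Nat.card K) : K = ⊤ :=
  Subgroup.eq_top_of_le_card K h

/-- Squares and commutators in a central subgroup of order two. -/
structure Sq (z : P) : Prop where
  ne : z ≠ 1
  zz : z * z = 1
  central : ∀ g : P, Commute z g
  sq : ∀ g : P, g * g = 1 ∨ g * g = z
  com : ∀ g h : P, h * g = g * h ∨ h * g = g * h * z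

theorem Sq.sq_comm {z : P} (hs : Sq z) (g h : P) : Commute (g * g) h := by
  rcases hs.sq g with e | e <;> rw [e]
  · exact Commute.one_left h
  · exact hs.central h

theorem Sq.inv {z : P} (hs : Sq z) : z⁻¹ = z := inv_eq_of_mul_eq_one_right hs.zz

theorem Sq.swap {z : P} (hs : Sq z) {x y : P} (hxy : ¬ Commute x y) : y * x = x * y * z :=
  (hs.com x y).resolve_left fun e => hxy (show x * y = y * x from e.symm)

theorem Sq.pow_four {z : P} (hs : Sq z) (g : P) : g * g * (g * g) = 1 := by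
  rcases hs.sq g with e | e <;> rw [e]
  · exact mul_one 1
  · exact hs.zz

/-- The subgroup of order eight of two noncommuting elements, the first of order four. -/
theorem Sq.sub8 [Finite P] {z : P} (hs : Sq z) {x y : P} (hxy : ¬ Commute x y) (hx : x * x = z) :
    ∃ W : Subgroup P, Nat.card W = 8 ∧ x ∈ W ∧ y ∈ W ∧
      ∀ g, g ∈ W ↔ g = 1 ∨ g = z ∨ g = x ∨ g = x * z ∨ g = y ∨ g = y * z ∨ g = y * x ∨ g = y * (x * z) := by
  have hz2 : z ^ 2 = 1 := by rw [pow_two, hs.zz]
  have hX : ∀ g, g ∈ Subgroup.zpowers x ↔ g = 1 ∨ g = z ∨ g = x ∨ g = x * z := by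
    intro g
    constructor
    · rintro ⟨i, rfl⟩
      have h2 : x ^ (2 : ℤ) = z := by rw [zpow_two, hx]
      have hzi : ∀ k : ℤ, z ^ k = 1 ∨ z ^ k = z := fun k => by
        have h3 : z ^ (2 : ℤ) = 1 := by rw [zpow_two, hs.zz]
        rcases Int.even_or_odd k with ⟨j, rfl⟩ | ⟨j, rfl⟩
        · left; rw [← two_mul, zpow_mul, h3, one_zpow]
        · right; rw [zpow_add, zpow_mul, h3, one_zpow, one_mul, zpow_one]
      rcases Int.even_or_odd i with ⟨k, rfl⟩ | ⟨k, rfl⟩
      · show x ^ (k + k) = 1 ∨ x ^ (k + k) = z ∨ x ^ (k + k) = x ∨ x ^ (k + k) = x * z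
        rw [← two_mul, zpow_mul, h2]
        rcases hzi k with e | e <;> rw [e] <;> simp
      · show x ^ (2 * k + 1) = 1 ∨ x ^ (2 * k + 1) = z ∨ x ^ (2 * k + 1) = x ∨ x ^ (2 * k + 1) = x * z
        rw [zpow_add, zpow_mul, h2, zpow_one]
        rcases hzi k with e | e <;> rw [e] <;> simp [(hs.central x).eq]
    · rintro (rfl | rfl | rfl | rfl)
      · exact one_mem _
      · exact hx ▸ mul_mem (Subgroup.mem_zpowers x) (Subgroup.mem_zpowers x)
      · exact Subgroup.mem_zpowers _
      · exact mul_mem (Subgroup.mem_zpowers x) (hx ▸ mul_mem (Subgroup.mem_zpowers x) (Subgroup.mem_zpowers x))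
  have hyX : y ∉ Subgroup.zpowers x := fun ⟨i, hi⟩ => hxy (hi ▸ (Commute.refl x).zpow_right i)
  have hconj : y * x * y⁻¹ = x * z := by
    rw [hs.swap hxy, mul_assoc x y z, ← (hs.central y).eq, ← mul_assoc, mul_inv_cancel_right]
  obtain ⟨W, hW, hcard⟩ := double (Subgroup.zpowers x) hyX (fun v ⟨i, hi⟩ => by
      subst hi
      show y * x ^ i * y⁻¹ ∈ _
      rw [← conj_zpow, hconj]
      exact zpow_mem ((hX _).mpr (by simp)) i)
    (by rw [hX]; rcases hs.sq y with e | e <;> rw [e] <;> simp)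
  refine ⟨W, ?_, (hW x).mpr (Or.inl (Subgroup.mem_zpowers x)), (hW y).mpr (Or.inr (by simp)), fun g => ?_⟩
  · have ho : orderOf x = 2 ^ 2 := orderOf_eq_prime_pow (p := 2) (n := 1)
      (by rw [pow_one, pow_two, hx]; exact hs.ne)
      (by rw [show (2 : ℕ) ^ (1 + 1) = 2 * 2 by norm_num, pow_mul, pow_two x, hx, hz2])
    rw [hcard, Nat.card_zpowers, ho]
    norm_num
  · rw [hW, hX, hX]
    simp only [inv_mul_eq_iff_eq_mul, mul_one, or_assoc]

/-- Beyond order eight there is a noncyclic abelian subgroup of order eight; order sixteen has a larger centre. -/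
theorem Sq.large [Finite P] {z : P} (hs : Sq z) {a b : P} (hab : ¬ Commute a b) (hcard : 8 < Nat.card P) :
    Has8 (⊤ : Subgroup P) ∧ (Nat.card P = 16 → ∃ w : P, (∀ g, Commute w g) ∧ w ≠ 1 ∧ w ≠ z) := by
  obtain ⟨x, y, hxy, hx⟩ : ∃ x y : P, ¬ Commute x y ∧ x * x = z := by
    rcases hs.sq a with ha | ha
    · rcases hs.sq b with hb | hb
      · refine ⟨a * b, b, fun h => hab ?_, (hs.sq (a * b)).resolve_left fun e => hab ?_⟩
        · have := h.mul_left (Commute.refl b).inv_left
          rwa [mul_inv_cancel_right] at this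
        · have hai : a⁻¹ = a := inv_eq_of_mul_eq_one_right ha
          have hbi : b⁻¹ = b := inv_eq_of_mul_eq_one_right hb
          have h1 : (a * b)⁻¹ = a * b := inv_eq_of_mul_eq_one_right e
          rw [mul_inv_rev, hai, hbi] at h1
          exact h1.symm
      · exact ⟨b, a, fun h => hab h.symm, hb⟩
    · exact ⟨a, b, hab, ha⟩
  obtain ⟨W, hW8, hxW, hyW, hW⟩ := hs.sub8 hxy hx
  obtain ⟨g, hg⟩ : ∃ g, g ∉ W := by
    by_contra h
    push Not at h
    rw [show W = ⊤ from eq_top_iff.mpr fun g _ => h g, Subgroup.card_top] at hW8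
    omega
  have hxe := hs.swap hxy
  have hye := hs.swap (fun h : Commute y x => hxy h.symm)
  obtain ⟨w, hwW, hwx, hwy⟩ : ∃ w, w ∉ W ∧ Commute w x ∧ Commute w y := by
    have step : ∀ (g u t : P), g ∉ W → u ∈ W → ¬ Commute g t → ¬ Commute u t → g * u ∉ W ∧ Commute (g * u) t := by
      intro g u t hg hu h1 h2
      refine ⟨fun h => hg (by have := W.mul_mem h (W.inv_mem hu); rwa [mul_inv_cancel_right] at this), ?_⟩
      show g * u * t = t * (g * u)
      rw [mul_assoc, hs.swap fun h : Commute t u => h2 h.symm, ← mul_assoc t g u,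
        hs.swap h1, mul_assoc (g * t) z u, (hs.central u).eq]
      simp only [mul_assoc]
    by_cases h1 : Commute g x
    · by_cases h2 : Commute g y
      · exact ⟨g, hg, h1, h2⟩
      · obtain ⟨h3, h4⟩ := step g x y hg hxW h2 hxy
        exact ⟨g * x, h3, h1.mul_left (Commute.refl x), h4⟩
    · obtain ⟨h3, h4⟩ := step g y x hg hyW h1 (fun h => hxy h.symm)
      by_cases h2 : Commute (g * y) y
      · exact ⟨g * y, h3, h4, h2⟩
      · obtain ⟨h5, h6⟩ := step (g * y) x y h3 hxW h2 hxy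
        exact ⟨g * y * x, h5, h4.mul_left (Commute.refl x), h6⟩
  refine ⟨?_, fun h16 => ?_⟩
  · have hd : x * x ≠ 1 := hx.symm ▸ hs.ne
    have hxw : x * x * (x * x) = 1 := hs.pow_four x
    have hzx : Subgroup.zpowers x ≤ W := Subgroup.zpowers_le.mpr hxW
    rcases hs.sq w with e | e
    · exact has8_of_pair hd hxw e (fun h => hwW (hzx h)) hwx.symm (Subgroup.mem_top x) (Subgroup.mem_top w)
    · refine has8_of_pair hd hxw (t := x * w) ?_ (fun h => hwW ?_) ((Commute.refl x).mul_right hwx.symm)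
        (Subgroup.mem_top x) (Subgroup.mem_top _)
      · rw [mul_assoc, ← mul_assoc w x w, hwx.eq, mul_assoc x w w, e, ← mul_assoc, hx, hs.zz]
      · have := W.mul_mem (W.inv_mem hxW) (hzx h)
        rwa [inv_mul_cancel_left] at this
  · have hW' : ∀ v ∈ W, Commute w v := by
      intro v hv
      have hz := (hs.central w).symm
      rcases (hW v).mp hv with e | e | e | e | e | e | e | e <;> rw [e]
      exacts [Commute.one_right w, hz, hwx, hwx.mul_right hz, hwy, hwy.mul_right hz, hwy.mul_right hwx,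
        hwy.mul_right (hwx.mul_right hz)]
    obtain ⟨W', hW'', hc'⟩ := double W hwW (fun v hv => by rw [(hW' v hv).eq, mul_inv_cancel_right]; exact hv)
      ((hW _).mpr (by rcases hs.sq w with e | e <;> rw [e] <;> simp))
    have htop : W' = ⊤ := eq_top_of_card (by omega)
    refine ⟨w, fun g => ?_, fun e => hwW (e ▸ one_mem _), fun e => hwW (e ▸ (hW z).mpr (by simp))⟩
    rcases (hW'' g).mp (htop.symm ▸ Subgroup.mem_top g) with h | h
    · exact hW' g h
    · have := (Commute.refl w).mul_right (hW' _ h)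
      rwa [mul_inv_cancel_left] at this

/-- An index-two subgroup containing `z`, missing `v`. -/
theorem Sq.exists_index_two [Finite P] {z v : P} (hs : Sq z) (hv : v ∉ Subgroup.zpowers z) :
    ∃ M : Subgroup P, M.index = 2 ∧ z ∈ M ∧ v ∉ M := by
  haveI : Fact (Nat.Prime 2) := ⟨Nat.prime_two⟩
  obtain ⟨M, ⟨hvM, hzM⟩, hmax⟩ : ∃ M : Subgroup P, (v ∉ M ∧ z ∈ M) ∧
      ∀ K : Subgroup P, v ∉ K ∧ z ∈ K → M ≤ K → K ≤ M := by
    obtain ⟨M, -, hM⟩ := Finite.exists_le_maximal (p := fun K : Subgroup P => v ∉ K ∧ z ∈ K)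
      (a := Subgroup.zpowers z) ⟨hv, Subgroup.mem_zpowers z⟩
    exact ⟨M, hM.1, fun K hK hle => hM.2 hK hle⟩
  have h2 : ∀ g : P, g * g ∈ M := fun g => by rcases hs.sq g with e | e <;> rw [e]; exacts [one_mem _, hzM]
  have hn : ∀ g : P, ∀ m ∈ M, g * m * g⁻¹ ∈ M := fun g m hm => by
    rcases hs.com m g with e | e <;> rw [e]
    · rw [mul_inv_cancel_right]; exact hm
    · rw [mul_assoc m g z, ← (hs.central g).eq, ← mul_assoc, mul_inv_cancel_right]; exact M.mul_mem hm hzM
  refine ⟨M, Subgroup.index_eq_two_iff'.mpr ⟨v, fun g => ?_⟩, hzM, hvM⟩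
  by_cases hg : g ∈ M
  · refine Or.inr ⟨hg, fun h => hvM ?_⟩
    exact (M.mul_mem_cancel_right hg).mp h
  · refine Or.inl ⟨?_, hg⟩
    obtain ⟨W, hW, -⟩ := double M hg (hn g) (h2 g)
    have hvW : v ∈ W := by
      by_contra h
      exact hg (hmax W ⟨h, (hW z).mpr (Or.inl hzM)⟩ (fun m hm => (hW m).mpr (Or.inl hm)) ((hW g).mpr (Or.inr (by simp))))
    rcases (hW v).mp hvW with h | h
    · exact absurd h hvM
    · have h3 := M.mul_mem (h2 g) h
      rw [mul_assoc, mul_inv_cancel_left] at h3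
      -- `g * v ∈ M`, hence `v * g ∈ M`
      have h5 := hn v _ h3
      rw [show v * (g * v) * v⁻¹ = v * g by group] at h5
      exact h5

end CfsgLib.EightAbelian
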