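import Cfsg.Agent.Lib.EightAbelian.Moved

/-!
A two-group minimal, under an odd group of automorphisms, with a noncyclic abelian subgroup of order eight.
-/

set_option autoImplicit false

namespace CfsgLib.EightAbelian

universe u

open scoped commutatorElement

variable {P : Type u} [Group P]

theorem Has8.map_subtype {K : Subgroup P} (h : Has8 (⊤ : Subgroup K)) : Has8 K := by
  obtain ⟨B, -, hB, hnc, hcard⟩ := h
  have e := Subgroup.equivMapOfInjective B K.subtype K.subtype_injective
  refine ⟨B.map K.subtype, Subgroup.map_subtype_le B, ⟨⟨fun a b => ?_⟩⟩, fun hc => hnc ?_,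
    by rw [Subgroup.card_map_of_injective K.subtype_injective, hcard]⟩
  · obtain ⟨a', rfl⟩ := e.surjective a
    obtain ⟨b', rfl⟩ := e.surjective b
    rw [← map_mul, ← map_mul, hB.is_comm.comm]
  · haveI := hc
    exact isCyclic_of_surjective e.symm e.symm.surjective

/-- Every automorphism fixes the commutator involution. -/
theorem Sq.fix {z : P} (hs : Sq z) {a b : P} (hab : ¬ Commute a b) (α : MulAut P) : α z = z := by
  have hswap := hs.swap hab
  rcases hs.com (α a) (α b) with e | e
  · exact absurd (α.injective (by rw [map_mul, map_mul, e]) : b * a = a * b) fun h => hab h.symm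
  · have : α (b * a) = α (a * b) * α z := by rw [hswap, map_mul]
    rw [map_mul, map_mul, e] at this
    exact (mul_left_cancel this).symm

/-- The condition that proper invariant subgroups have no noncyclic abelian subgroup of order eight. -/
def Small (Γ : Subgroup (MulAut P)) : Prop :=
  ∀ K : Subgroup P, K ≠ ⊤ → (∀ α ∈ Γ, ∀ k ∈ K, α k ∈ K) → ¬ Has8 K

theorem Small.char {Γ : Subgroup (MulAut P)} (hsmall : Small Γ) {K : Subgroup P} (hK : K.Characteristic) (hne : K ≠ ⊤) :
    ¬ Has8 K :=
  hsmall K hne fun α _ k hk => CfsgLib.SymplecticTypeP.char_mem hK α hk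

/-- The conclusion. -/
def Concl (P : Type u) [Group P] : Prop :=
  IsMulCommutative P ∨ (Cfsg.IsExtraspecial 2 P ∧ 32 ≤ Nat.card P) ∨
    (∃ Q : Subgroup P, Q.index = 2 ∧ Nonempty (↥Q ≃* QuaternionGroup (2 ^ (0 + 1))) ∧
      Q ⊔ Subgroup.centralizer (Q : Set P) = ⊤) ∨
    (Cfsg.IsSpecial 2 P ∧ Nat.card (Subgroup.center P) = 4)

/-- A central element outside a quaternion subgroup of index two. -/
theorem quat_concl [Finite P] {z v x y : P} (hs : Sq z) (hxy : ¬ Commute x y) (hx : x * x = z) (hy : y * y = z)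
    (hv : ∀ g, Commute v g) (hv1 : v ≠ 1) (hvz : v ≠ z) (hle : Nat.card P ≤ 16) : Concl P := by
  obtain ⟨Q, hQ8, hxQ, hyQ, hiso⟩ := q8_iso hs hxy hx hy
  obtain ⟨W, hW8, hxW, hyW, hW⟩ := hs.sub8 hxy hx
  have hvQ : v ∉ Q := by
    intro hvQ
    -- the quaternion subgroup has centre of order two
    obtain ⟨e⟩ := hiso
    have hc : ∀ g : Q, Commute (e ⟨v, hvQ⟩) (e g) := fun g => by
      have : Commute (⟨v, hvQ⟩ : Q) g := Subtype.ext (hv g).eq
      exact this.map e.toMonoidHom
    have hc' : ∀ g, Commute (e ⟨v, hvQ⟩) g := fun g => by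
      obtain ⟨g', rfl⟩ := e.surjective g
      exact hc g'
    have key : ∀ q : QuaternionGroup (2 ^ (1 : ℕ)), (∀ g, q * g = g * q) → q * q = 1 := by decide
    have hv2 : v * v = 1 := by
      have h1 : (⟨v, hvQ⟩ : Q) * ⟨v, hvQ⟩ = 1 := e.injective (by rw [map_mul, map_one]; exact key _ fun g => (hc' g).eq)
      exact congrArg Subtype.val h1
    have hQW : ∀ g ∈ Q, g ∈ W := by
      have : W ≤ Q := fun g hg => by
        have hzQ : z ∈ Q := hx ▸ Q.mul_mem hxQ hxQ
        rcases (hW g).mp hg with e | e | e | e | e | e | e | e <;> rw [e]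
        exacts [Q.one_mem, hzQ, hxQ, Q.mul_mem hxQ hzQ, hyQ, Q.mul_mem hyQ hzQ, Q.mul_mem hyQ hxQ,
          Q.mul_mem hyQ (Q.mul_mem hxQ hzQ)]
      rw [Subgroup.eq_of_le_of_card_ge this (by rw [hQ8, hW8])]
      exact fun g hg => hg
    rcases q8_inv hs hxy hx hy ((hW v).mp (hQW v hvQ)) hv2 with e' | e'
    exacts [hv1 e', hvz e']
  have hidx : Q.index = 2 := by
    have h1 := Q.card_mul_index
    have h2 : Q.index ≠ 1 := fun e => hvQ (Subgroup.index_eq_one.mp e ▸ Subgroup.mem_top v)
    have h3 : 0 < Q.index := Nat.pos_of_ne_zero Subgroup.index_ne_zero_of_finite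
    rw [hQ8] at h1
    omega
  refine Or.inr (Or.inr (Or.inl ⟨Q, hidx, hiso, ?_⟩))
  have hvC : v ∈ Subgroup.centralizer (Q : Set P) := Subgroup.mem_centralizer_iff.mpr fun g _ => (hv g).eq.symm
  refine eq_top_iff.mpr fun g _ => ?_
  by_cases hg : g ∈ Q
  · exact Subgroup.mem_sup_left hg
  · have h1 : v⁻¹ * g ∈ Q := (Subgroup.mul_mem_iff_of_index_two hidx).mpr (by simp [hvQ, hg])
    have := (Q ⊔ Subgroup.centralizer (Q : Set P)).mul_mem (Subgroup.mem_sup_right hvC) (Subgroup.mem_sup_left h1)
    rwa [mul_inv_cancel_left] at this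

/-- An invariant complement to a moved central element. -/
theorem invariant_index_two [Finite P] {z v : P} (hs : Sq z) {Γ : Subgroup (MulAut P)} (hΓ : Odd (Nat.card Γ))
    (hv1 : v ≠ 1) (hvz : v ≠ z) (hfz : ∀ α ∈ Γ, α z = z) (hfv : ∀ α ∈ Γ, α v = v ∨ α v = v * z) :
    ∃ K : Subgroup P, K.index = 2 ∧ z ∈ K ∧ v ∉ K ∧ ∀ α ∈ Γ, ∀ k ∈ K, α k ∈ K := by
  classical
  have hvZ : v ∉ Subgroup.zpowers z := fun ⟨i, hi⟩ => by
    have h2 : z ^ (2 : ℤ) = 1 := by rw [zpow_two, hs.zz]
    have hi' : z ^ i = v := hi
    rcases Int.even_or_odd i with ⟨k, rfl⟩ | ⟨k, rfl⟩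
    · rw [← two_mul, zpow_mul, h2, one_zpow] at hi'; exact hv1 hi'.symm
    · rw [zpow_add, zpow_mul, h2, one_zpow, one_mul, zpow_one] at hi'; exact hvz hi'.symm
  obtain ⟨M, hM, hzM, hvM⟩ := hs.exists_index_two hvZ
  haveI : Fintype Γ := Fintype.ofFinite Γ
  let ind : P → ZMod 2 := fun g => if g ∈ M then 0 else 1
  have hind : ∀ g h, ind (g * h) = ind g + ind h := fun g h => by
    have := Subgroup.mul_mem_iff_of_index_two hM (a := g) (b := h)
    simp only [ind]
    by_cases hg : g ∈ M <;> by_cases hh : h ∈ M <;> simp [this, hg, hh] <;> rfl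
  let χ : P → ZMod 2 := fun g => ∑ α : Γ, ind ((α : MulAut P) g)
  have hχ : ∀ g h, χ (g * h) = χ g + χ h := fun g h => by
    simp only [χ, map_mul, hind, Finset.sum_add_distrib]
  have hχ1 : χ 1 = 0 := by simpa using hχ 1 1
  have hcard : ((Nat.card Γ : ℕ) : ZMod 2) = 1 := by
    rw [← ZMod.natCast_mod, Nat.odd_iff.mp hΓ]; rfl
  have hχv : χ v = 1 := by
    have h1 : ∀ α : Γ, ind ((α : MulAut P) v) = 1 := fun α => by
      have : (α : MulAut P) v ∉ M := by
        rcases hfv α α.2 with e | e <;> rw [e]
        · exact hvM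
        · exact fun h => hvM ((M.mul_mem_cancel_right hzM).mp h)
      simp [ind, this]
    simp only [χ, h1, Finset.sum_const, Finset.card_univ, nsmul_eq_mul, mul_one]
    rw [← Nat.card_eq_fintype_card, hcard]
  let K : Subgroup P :=
    { carrier := {g | χ g = 0}
      one_mem' := hχ1
      mul_mem' := fun {g h} hg hh => by
        show χ (g * h) = 0
        rw [hχ, show χ g = 0 from hg, show χ h = 0 from hh, add_zero]
      inv_mem' := fun {g} hg => by
        have := hχ g g⁻¹
        rw [mul_inv_cancel, hχ1, show χ g = 0 from hg, zero_add] at this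
        exact this.symm }
  refine ⟨K, Subgroup.index_eq_two_iff'.mpr ⟨v, fun g => ?_⟩, ?_, fun h => ?_, fun α hα k hk => ?_⟩
  · have h1 : χ (v * g) = 1 + χ g := by rw [hχ, hχv]
    have h2 : ∀ c : ZMod 2, Xor (1 + c = 0) (c = 0) := by decide
    show Xor (χ (v * g) = 0) (χ g = 0)
    rw [h1]; exact h2 _
  · show χ z = 0
    have h1 : ∀ α : Γ, ind ((α : MulAut P) z) = 0 := fun α => by simp [ind, hfz α α.2, hzM]
    simp [χ, h1]
  · rw [show K = K from rfl] at h
    have : χ v = 0 := h
    rw [hχv] at this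
    exact one_ne_zero this
  · show χ (α k) = 0
    rw [← show χ k = 0 from hk]
    refine Fintype.sum_equiv (Equiv.mulRight (⟨α, hα⟩ : Γ)) _ _ fun β => ?_
    simp [MulAut.mul_apply]

/-- The case of a centre of order four. -/
theorem central_split [Finite P] (hP : IsPGroup 2 P) {z v a b : P} (hs : Sq z) (hab : ¬ Commute a b)
    {Γ : Subgroup (MulAut P)} (hΓ : Odd (Nat.card Γ)) (hsmall : Small Γ) (h8 : Has8 (⊤ : Subgroup P))
    (hv : ∀ g, Commute v g) (hv1 : v ≠ 1) (hvz : v ≠ z) (hfv : ∀ α ∈ Γ, α v = v ∨ α v = v * z) : Concl P := by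
  classical
  have hfz : ∀ α ∈ Γ, α z = z := fun α _ => hs.fix hab α
  obtain ⟨K, hK, hzK, hvK, hinv⟩ := invariant_index_two hs hΓ hv1 hvz hfz hfv
  have hKne : K ≠ ⊤ := fun e => hvK (e ▸ Subgroup.mem_top v)
  have hK8 : ¬ Has8 K := hsmall K hKne hinv
  have hadj : ∀ g : P, ∃ k : K, ∀ h, (Commute (k : P) h ↔ Commute g h) := fun g => by
    by_cases hg : g ∈ K
    · exact ⟨⟨g, hg⟩, fun h => Iff.rfl⟩
    · refine ⟨⟨g * v, (Subgroup.mul_mem_iff_of_index_two hK).mpr (by simp [hg, hvK])⟩, fun h => ⟨fun hc => ?_, fun hc =>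
        hc.mul_left (hv h)⟩⟩
      have := hc.mul_left (hv h).inv_left
      rwa [mul_inv_cancel_right] at this
  obtain ⟨a', ha'⟩ := hadj a
  obtain ⟨b', hb'⟩ := hadj b
  have hab' : ¬ Commute (a' : P) b' := fun h => hab ((ha' b).mp ((hb' a').mp h.symm).symm)
  have hsK : Sq (⟨z, hzK⟩ : K) := ⟨fun e => hs.ne (congrArg Subtype.val e), Subtype.ext hs.zz,
    fun g => Subtype.ext (hs.central g).eq, fun g => (hs.sq g).imp (fun e => Subtype.ext e) (fun e => Subtype.ext e),
    fun g h => (hs.com g h).imp (fun e => Subtype.ext e) (fun e => Subtype.ext e)⟩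
  have habK : ¬ Commute a' b' := fun h => hab' (congrArg Subtype.val h.eq)
  have hKle : Nat.card K ≤ 8 := Nat.le_of_not_lt fun h => hK8 (hsK.large habK h).1.map_subtype
  have hle : Nat.card P ≤ 16 := by rw [← K.card_mul_index, hK]; omega
  by_cases hd : ∃ x y : P, ¬ Commute x y ∧ x * x = z ∧ y * y = z
  · obtain ⟨x, y, hxy, hx, hy⟩ := hd
    exact quat_concl hs hxy hx hy hv hv1 hvz hle
  exfalso
  -- every automorphism in `Γ` is then trivial
  have htriv : ∀ α ∈ Γ, ∀ k ∈ K, α k = k := by
    intro α hα
    have hmapK : K.map α.toMonoidHom = K := Subgroup.eq_of_le_of_card_ge (fun g ⟨k, hk, e⟩ => e ▸ hinv α hα k hk)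
      (by rw [Subgroup.card_map_of_injective α.injective])
    let β : MulAut K := (α.subgroupMap K).trans (MulEquiv.subgroupCongr hmapK)
    have hβ : ∀ k : K, ((β k : K) : P) = α k := fun k => rfl
    have hβo : Odd (orderOf β) := by
      have hpow : ∀ n : ℕ, ∀ k : K, (((β ^ n) k : K) : P) = (α ^ n) k := by
        intro n
        induction n with
        | zero => intro k; rfl
        | succ n ih => intro k; rw [pow_succ', pow_succ', MulAut.mul_apply, MulAut.mul_apply, hβ, ih]
      refine Odd.of_dvd_nat ?_ (orderOf_dvd_of_pow_eq_one (n := orderOf α) (MulEquiv.ext fun k => Subtype.ext ?_))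
      · exact Odd.of_dvd_nat hΓ (Subgroup.orderOf_dvd_natCard Γ hα)
      · rw [hpow, pow_orderOf_eq_one]; rfl
    by_cases hβ1 : β = 1
    · intro k hk
      have := hβ ⟨k, hk⟩
      rw [hβ1] at this
      exact this.symm
    · exfalso
      rcases moved (hP.to_subgroup K) (fun h => hK8 h.map_subtype) hβo hβ1 with ⟨h4, -⟩ | ⟨z', x, y, hs', hxy, hx, hy, -, -⟩
      · obtain ⟨W, hW8, -⟩ : ∃ W : Subgroup K, 8 ≤ Nat.card W ∧ True := by
          rcases hsK.sq a' with e | e
          · rcases hsK.sq b' with e' | e'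
            · have h1 : ¬ Commute (a' * b') b' := fun h => habK (by
                have := h.mul_left (Commute.refl b').inv_left
                rwa [mul_inv_cancel_right] at this)
              have h2 : a' * b' * (a' * b') = ⟨z, hzK⟩ := (hsK.sq _).resolve_left fun e'' => habK (by
                have h3 := inv_eq_of_mul_eq_one_right e''
                rw [mul_inv_rev, inv_eq_of_mul_eq_one_right e, inv_eq_of_mul_eq_one_right e'] at h3
                exact h3.symm)
              obtain ⟨W, hW, -⟩ := hsK.sub8 h1 h2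
              exact ⟨W, hW.ge, trivial⟩
            · obtain ⟨W, hW, -⟩ := hsK.sub8 (fun h => habK h.symm) e'
              exact ⟨W, hW.ge, trivial⟩
          · obtain ⟨W, hW, -⟩ := hsK.sub8 habK e
            exact ⟨W, hW.ge, trivial⟩
        have := Subgroup.card_le_card_group W
        omega
      · have hxyP : ¬ Commute (x : P) y := fun h => hxy (Subtype.ext h.eq)
        have hz' : (z' : P) = z := by
          rcases hsK.sq x with e | e <;> rw [hx] at e
          · exact absurd e hs'.ne
          · exact congrArg Subtype.val e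
        exact hd ⟨x, y, hxyP, (congrArg Subtype.val hx).trans hz', (congrArg Subtype.val hy).trans hz'⟩
  have hall : ∀ α ∈ Γ, ∀ g, α g = g := by
    intro α hα g
    have hαo : Odd (orderOf α) := Odd.of_dvd_nat hΓ (Subgroup.orderOf_dvd_natCard Γ hα)
    have hαv : α v = v := by
      rcases hfv α hα with e | e
      · exact e
      · exact fix_step hP hαo (by rw [e, inv_mul_cancel_left, hfz α hα])
    by_cases hg : g ∈ K
    · exact htriv α hα g hg
    · have h1 := htriv α hα (v * g) ((Subgroup.mul_mem_iff_of_index_two hK).mpr (by simp [hg, hvK]))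
      rw [map_mul, hαv] at h1
      exact mul_left_cancel h1
  obtain ⟨B, -, hB1, hB2, hB8⟩ := h8
  refine hsmall B (fun e => ?_) (fun α hα k hk => by rw [hall α hα k]; exact hk) ⟨B, le_rfl, hB1, hB2, hB8⟩
  have : (⊤ : Subgroup P) ≤ B := e.ge
  exact hab (congrArg Subtype.val (hB1.is_comm.comm (⟨a, this (Subgroup.mem_top a)⟩ : B) ⟨b, this (Subgroup.mem_top b)⟩))

/-- The structure. -/
theorem structure_small [Finite P] (hP : IsPGroup 2 P) {Γ : Subgroup (MulAut P)} (hΓ : Odd (Nat.card Γ))
    (hsmall : Small Γ) (h8 : Has8 (⊤ : Subgroup P)) : Concl P := by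
  classical
  haveI : Fact (Nat.Prime 2) := ⟨Nat.prime_two⟩
  by_cases hcomm : IsMulCommutative P
  · exact Or.inl hcomm
  obtain ⟨a₀, b₀, hab₀⟩ : ∃ a b : P, ¬ Commute a b := by
    by_contra h
    push Not at h
    exact hcomm ⟨⟨fun a b => (h a b).eq⟩⟩
  have hB8 : ¬ Nat.card P ≤ 8 := fun hle => by
    obtain ⟨B, -, hB1, -, hB8'⟩ := h8
    have htop : B = ⊤ := eq_top_of_card (by omega)
    exact hab₀ (congrArg Subtype.val (hB1.is_comm.comm (⟨a₀, htop ▸ Subgroup.mem_top _⟩ : B) ⟨b₀, htop ▸ Subgroup.mem_top _⟩))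
  by_cases hex : ∃ B : Subgroup P, B.Characteristic ∧ IsMulCommutative ↥B ∧ ¬ IsCyclic ↥B
  · obtain ⟨V, hVc, hV, hVn⟩ := hex
    have hVne : ∀ U : Subgroup P, IsMulCommutative ↥U → U ≠ ⊤ := fun U hU e => hab₀ (congrArg Subtype.val
      (hU.is_comm.comm (⟨a₀, e ▸ Subgroup.mem_top _⟩ : U) ⟨b₀, e ▸ Subgroup.mem_top _⟩))
    rcases four_or_has8 hP hV hVn with ⟨h4, he⟩ | h
    swap
    · exact absurd h (hsmall.char hVc (hVne V hV))
    haveI := hVc
    have hVC : V ≤ Subgroup.centralizer (V : Set P) := fun g hg => Subgroup.mem_centralizer_iff.mpr fun v hv =>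
      congrArg Subtype.val (hV.is_comm.comm (⟨v, hv⟩ : V) ⟨g, hg⟩)
    have hcollapse : ∀ U : Subgroup P, ¬ Has8 U → V ≤ U → U ≤ Subgroup.centralizer (V : Set P) → U = V := by
      intro U hU hVU hUC
      refine le_antisymm (fun g hg => ?_) hVU
      by_contra hgV
      obtain ⟨k, hk1, hk2⟩ := exists_step hP V hgV
      exact hU (has8_of_four hV h4 he hk1
        (fun v hv => ((show Commute g v from (Subgroup.mem_centralizer_iff.mp (hUC hg) v hv).symm)).pow_left k)
        hk2 hVU (U.pow_mem hg k))
    by_cases hCtop : Subgroup.centralizer (V : Set P) = ⊤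
    swap
    · have hC := hcollapse _ (hsmall.char inferInstance hCtop) hVC le_rfl
      rcases four_char hP hVc hV h4 he hC with e | ⟨e, -⟩
      · exact absurd e (hVne V hV)
      · exact absurd e.le hB8
    have hVcen : ∀ v ∈ V, ∀ g, Commute v g := fun v hv g =>
      (Subgroup.mem_centralizer_iff.mp (hCtop ▸ Subgroup.mem_top g) v hv)
    have hZ : Subgroup.center P = V := hcollapse _ (hsmall.char inferInstance (hVne _ inferInstance))
      (fun v hv => Subgroup.mem_center_iff.mpr fun g => (hVcen v hv g).eq.symm) (hCtop ▸ le_top)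
    have hΦ : frattini P ≤ V := by
      have hne : V ⊔ frattini P ≠ ⊤ := fun e => hVne V hV (frattini_nongenerating e)
      have h := hcollapse _ (hsmall (V ⊔ frattini P) hne fun α _ k hk => ?_) le_sup_left (hCtop ▸ le_top)
      · exact le_sup_right.trans h.le
      · have : (V ⊔ frattini P).map α.toMonoidHom ≤ V ⊔ frattini P := by
          rw [Subgroup.map_sup]
          exact sup_le_sup (Subgroup.characteristic_iff_map_le.mp hVc α)
            (Subgroup.characteristic_iff_map_le.mp inferInstance α)
        exact this ⟨k, hk, rfl⟩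
    have hcom : commutator P ≤ V := (CfsgLib.commutator_le_frattini_pGroup hP).trans hΦ
    by_cases hfull : commutator P = V
    · refine Or.inr (Or.inr (Or.inr ⟨⟨hP, ?_, hfull.trans hZ.symm⟩, by rw [hZ, h4]⟩))
      rw [hZ]
      exact le_antisymm hΦ (hfull ▸ CfsgLib.commutator_le_frattini_pGroup hP)
    have hz0 : ⁅a₀, b₀⁆ ∈ commutator P := Subgroup.commutator_mem_commutator (Subgroup.mem_top _) (Subgroup.mem_top _)
    have hz1 : ⁅a₀, b₀⁆ ≠ 1 := fun e => hab₀ (commutatorElement_eq_one_iff_commute.mp e)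
    set z := ⁅a₀, b₀⁆ with hzdef
    have hzV : z ∈ V := hcom hz0
    obtain ⟨w, hw, hw1, hwz, hmem⟩ := four_split hV h4 he hzV hz1
    have hP' : ∀ g ∈ commutator P, g = 1 ∨ g = z := fun g hg => by
      rcases (hmem g).mp (hcom hg) with e | e | e | e
      · exact Or.inl e
      · exact Or.inr e
      all_goals
        refine absurd (le_antisymm hcom fun x hx => ?_) hfull
        have hwc : w ∈ commutator P := by
          first
            | exact e ▸ hg
            | (have := (commutator P).mul_mem (e ▸ hg) hz0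
               rwa [mul_assoc, he z hzV, mul_one] at this)
        rcases (hmem x).mp hx with e' | e' | e' | e' <;> rw [e']
        exacts [one_mem _, hz0, hwc, mul_mem hwc hz0]
    have hzc : ∀ g, Commute z g := hVcen z hzV
    have hcom' : ∀ g h : P, h * g = g * h ∨ h * g = g * h * z := fun g h => by
      rcases hP' ⁅h, g⁆ (Subgroup.commutator_mem_commutator (Subgroup.mem_top _) (Subgroup.mem_top _)) with e | e
      · exact Or.inl (commutatorElement_eq_one_iff_mul_comm.mp e)
      · refine Or.inr ?_
        rw [← (hzc (g * h)).eq, ← e, commutatorElement_def]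
        group
    have hsqV : ∀ g : P, g * g ∈ V := fun g => hΦ (by rw [← pow_two]; exact CfsgLib.pow_mem_frattini_pGroup hP g)
    have hsq : ∀ g : P, g * g = 1 ∨ g * g = z := by
      by_contra hcon
      push Not at hcon
      obtain ⟨g₀, hg₀, hg₀'⟩ := hcon
      let L : Subgroup P :=
        { carrier := {g | g * g = 1 ∨ g * g = z}
          one_mem' := Or.inl (mul_one 1)
          mul_mem' := fun {g h} hg hh => by
            have hz2 := he z hzV
            rcases hcom' g h with e | e
            · have hgh : Commute g h := e.symm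
              show g * h * (g * h) = 1 ∨ g * h * (g * h) = z
              rw [hgh.symm.mul_mul_mul_comm]
              rcases hg with e1 | e1 <;> rcases hh with e2 | e2 <;> rw [e1, e2] <;> simp [hz2]
            · show g * h * (g * h) = 1 ∨ g * h * (g * h) = z
              have : g * h * (g * h) = g * g * (h * h) * z := by
                calc g * h * (g * h) = g * (h * g) * h := by group
                  _ = g * (g * h * z) * h := by rw [e]
                  _ = g * g * h * (z * h) := by group
                  _ = g * g * h * (h * z) := by rw [(hzc h).eq]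
                  _ = g * g * (h * h) * z := by group
              rw [this]
              rcases hg with e1 | e1 <;> rcases hh with e2 | e2 <;> rw [e1, e2] <;> simp [hz2]
          inv_mem' := fun {g} hg => by
            show g⁻¹ * g⁻¹ = 1 ∨ g⁻¹ * g⁻¹ = z
            rw [← mul_inv_rev]
            rcases hg with e | e <;> rw [e]
            · simp
            · exact Or.inr (inv_eq_of_mul_eq_one_right (he z hzV)) }
      have hs0 : ∀ α : MulAut P, α z = z := fun α => by
        rcases hP' (α z) (CfsgLib.SymplecticTypeP.char_mem inferInstance α hz0) with e | e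
        · exact absurd (α.injective (e.trans (map_one α).symm)) hz1
        · exact e
      have hL : L = V := hcollapse L (hsmall L (fun e => ?_) fun α _ k hk => ?_) (fun g hg => Or.inl (he g hg)) (hCtop ▸ le_top)
      · have hout : ∀ g, g ∉ V → g * g = w ∨ g * g = w * z := fun g hg => by
          rcases (hmem _).mp (hsqV g) with e | e | e | e
          · exact absurd (hL ▸ (show g ∈ L from Or.inl e)) hg
          · exact absurd (hL ▸ (show g ∈ L from Or.inr e)) hg
          · exact Or.inl e
          · exact Or.inr e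
        have hprod : ∀ g h, g ∉ V → h ∉ V → g * h ∈ V := fun g h hg hh => by
          rw [← hL]
          show g * h * (g * h) = 1 ∨ g * h * (g * h) = z
          have hwz' := hVcen w hw z
          have hww := he w hw
          have hzz := he z hzV
          have : g * h * (g * h) = g * g * (h * h) ∨ g * h * (g * h) = g * g * (h * h) * z := by
            rcases hcom' g h with e | e
            · exact Or.inl ((show Commute h g from e).mul_mul_mul_comm ..)
            · refine Or.inr ?_
              calc g * h * (g * h) = g * (h * g) * h := by group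
                _ = g * (g * h * z) * h := by rw [e]
                _ = g * g * h * (z * h) := by group
                _ = g * g * h * (h * z) := by rw [(hzc h).eq]
                _ = g * g * (h * h) * z := by group
          rcases this with e | e <;> rw [e] <;> rcases hout g hg with e1 | e1 <;> rcases hout h hh with e2 | e2 <;>
            rw [e1, e2]
          all_goals
            have h1 : ∀ t, w * (w * t) = t := fun t => by rw [← mul_assoc, hww, one_mul]
            have h2 : ∀ t, z * (z * t) = t := fun t => by rw [← mul_assoc, hzz, one_mul]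
            have h3 : ∀ t, z * (w * t) = w * (z * t) := fun t => by rw [← mul_assoc, ← hwz'.eq, mul_assoc]
            simp only [mul_assoc, h1, h2, h3, hww, hzz, ← hwz'.eq, mul_one, one_mul, true_or, or_true]
        refine hab₀ ?_
        by_cases ha : a₀ ∈ V
        · exact hVcen a₀ ha b₀
        by_cases hb : b₀ ∈ V
        · exact (hVcen b₀ hb a₀).symm
        have h1 := hVcen _ (hprod a₀ b₀ ha hb) a₀
        show a₀ * b₀ = b₀ * a₀
        have := h1.eq
        rw [mul_assoc] at this
        exact (mul_left_cancel this).symm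
      · rcases (show g₀ ∈ L from e ▸ Subgroup.mem_top g₀) with h | h
        exacts [hg₀ h, hg₀' h]
      · show α k * α k = 1 ∨ α k * α k = z
        rw [← map_mul]
        rcases hk with e | e <;> rw [e]
        · simp
        · exact Or.inr (hs0 α)
    have hs : Sq z := ⟨hz1, he z hzV, hzc, hsq, hcom'⟩
    refine central_split hP hs hab₀ hΓ hsmall h8 (hVcen w hw) hw1 hwz fun α _ => ?_
    rcases (hmem _).mp (CfsgLib.SymplecticTypeP.char_mem hVc α hw) with e | e | e | e
    · exact absurd (α.injective (e.trans (map_one α).symm)) hw1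
    · exact absurd (α.injective (e.trans (hs.fix hab₀ α).symm)) hwz
    · exact Or.inl e
    · exact Or.inr e
  push Not at hex
  rcases shape hP (fun A h1 h2 => hex A h1 h2) with ⟨hc⟩ | ⟨K, hK, hKc, hK8⟩ | ⟨c, d, hdc, hd, hd4, hc, hout⟩ |
      ⟨z, hs, a, b, hab, hZ, hE⟩ | ⟨z, d, hs, a, b, hab, hd, hdc, hZ⟩
  · exact absurd hc.isMulCommutative hcomm
  · exact absurd hK8 (hsmall.char hKc hK)
  · exfalso
    obtain ⟨B, -, hB1, hB2, hB8'⟩ := h8
    have hBc : ∀ x ∈ B, ∀ y ∈ B, Commute x y := fun x hx y hy => congrArg Subtype.val (hB1.is_comm.comm (⟨x, hx⟩ : B) ⟨y, hy⟩)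
    obtain ⟨x, hxB, hxc⟩ : ∃ x ∈ B, x ∉ Subgroup.zpowers c := by
      by_contra h
      push Not at h
      haveI : IsCyclic (B.subgroupOf (Subgroup.zpowers c)) := Subgroup.isCyclic _
      exact hB2 (isCyclic_of_surjective (Subgroup.subgroupOfEquivOfLe h) (Subgroup.subgroupOfEquivOfLe h).surjective)
    have hCd : ∀ u ∈ Subgroup.zpowers c, Commute u d := fun u ⟨i, hi⟩ => by
      obtain ⟨j, hj⟩ := hdc
      subst hi; rw [← hj]
      exact Commute.zpow_zpow_self _ i j
    have hprod : ∀ y ∈ B, y ∉ Subgroup.zpowers c → x⁻¹ * y ∈ Subgroup.zpowers c := by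
      intro y _ hy
      by_contra hcon
      have h1 := hout _ hcon
      have h2 : x⁻¹ * (y * d * y⁻¹) * x = d⁻¹ := by rw [← h1]; group
      rw [hout y hy] at h2
      have h3 : x⁻¹ * d⁻¹ * x = d := by
        have := hout x hxc
        calc x⁻¹ * d⁻¹ * x = x⁻¹ * (x * d * x⁻¹) * x := by rw [this]
          _ = d := by group
      rw [h3] at h2
      exact hd (by rw [← eq_inv_iff_mul_eq_one]; exact h2)
    set K := B ⊓ Subgroup.zpowers c with hKdef
    obtain ⟨W, hW, hWc⟩ := double K (fun h => hxc (Subgroup.mem_inf.mp h).2)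
      (fun v hv => by rw [(hBc x hxB v (Subgroup.mem_inf.mp hv).1).eq, mul_inv_cancel_right]; exact hv)
      (Subgroup.mem_inf.mpr ⟨B.mul_mem hxB hxB, by
        by_contra hcon
        have := hprod (x * x) (B.mul_mem hxB hxB) hcon
        rw [inv_mul_cancel_left] at this
        exact hxc this⟩)
    have hBW : B ≤ W := fun y hy => (hW y).mpr (by
      by_cases h : y ∈ Subgroup.zpowers c
      · exact Or.inl (Subgroup.mem_inf.mpr ⟨hy, h⟩)
      · exact Or.inr (Subgroup.mem_inf.mpr ⟨B.mul_mem (B.inv_mem hxB) hy, hprod y hy h⟩))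
    have h4K := Subgroup.card_le_of_le hBW
    haveI : IsCyclic K := by
      haveI : IsCyclic (K.subgroupOf (Subgroup.zpowers c)) := Subgroup.isCyclic _
      exact isCyclic_of_surjective (Subgroup.subgroupOfEquivOfLe (show K ≤ Subgroup.zpowers c from inf_le_right))
        (Subgroup.subgroupOfEquivOfLe (show K ≤ Subgroup.zpowers c from inf_le_right)).surjective
    obtain ⟨k, hk⟩ := IsCyclic.exists_generator (α := K)
    have hko : orderOf (k : P) = Nat.card K := by rw [Subgroup.orderOf_coe]; exact orderOf_eq_card_of_forall_mem_zpowers hk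
    obtain ⟨n, hn⟩ := IsPGroup.iff_orderOf.mp hP (k : P)
    obtain ⟨j, rfl⟩ : ∃ j, n = j + 2 := ⟨n - 2, by
      by_contra h
      have h2 : n ≤ 1 := by omega
      have := Nat.pow_le_pow_right (show 2 > 0 by norm_num) h2
      omega⟩
    set t := (k : P) ^ 2 ^ j with ht
    have ht4 : t * t * (t * t) = 1 := by
      rw [ht, ← pow_add, ← pow_add, show 2 ^ j + 2 ^ j + (2 ^ j + 2 ^ j) = 2 ^ (j + 2) by rw [pow_add]; ring, ← hn,
        pow_orderOf_eq_one]
    have ht2 : t * t ≠ 1 := fun e => by
      rw [ht, ← pow_add] at e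
      have := Nat.le_of_dvd (by positivity) (orderOf_dvd_of_pow_eq_one e)
      rw [hn, pow_add] at this
      have : 1 ≤ 2 ^ j := Nat.one_le_two_pow
      omega
    have htK : t ∈ K := by rw [ht]; exact K.pow_mem k.2 _
    have hxt : Commute x t := hBc x hxB t (Subgroup.mem_inf.mp htK).1
    have h1 := hout x hxc
    rcases four_unique hdc hd hd4 (Subgroup.mem_inf.mp htK).2 ht4 ht2 with e | e
    · rw [← e, hxt.eq, mul_inv_cancel_right] at h1
      exact ht2 (by rw [← eq_inv_iff_mul_eq_one]; exact h1)
    · rw [e] at hxt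
      rw [(Commute.inv_right_iff.mp hxt).eq, mul_inv_cancel_right] at h1
      exact hd (by rw [← eq_inv_iff_mul_eq_one]; exact h1)
  · refine Or.inr (Or.inl ⟨hE, ?_⟩)
    obtain ⟨n, hn⟩ := IsPGroup.iff_card.mp hP
    have h4 : 4 ≤ n := by
      by_contra h
      have := Nat.pow_le_pow_right (show 2 > 0 by norm_num) (show n ≤ 3 by omega)
      omega
    have h5 : n ≠ 4 := fun e => by
      subst e
      obtain ⟨w, hw, hw1, hwz⟩ := (hs.large hab (by rw [hn]; norm_num)).2 (by rw [hn]; norm_num)
      rcases hZ w hw with e | e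
      exacts [hw1 e, hwz e]
    rw [hn]
    exact le_trans (by norm_num) (Nat.pow_le_pow_right two_pos (show 5 ≤ n by omega))
  · refine central_split hP hs hab hΓ hsmall h8 hdc (fun e => hs.ne (by rw [← hd, e, mul_one]))
      (fun e => hs.ne (by rw [← hd, e, hs.zz])) fun α _ => ?_
    have hc : ∀ g, Commute (α d) g := fun g => by
      have := (hdc (α.symm g)).map α.toMonoidHom
      simpa using this
    have hd2 : α d * α d = z := by rw [← map_mul, hd, hs.fix hab α]
    rcases hZ _ hc with e | e | e | e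
    · rw [e, mul_one] at hd2; exact absurd hd2.symm hs.ne
    · rw [e, hs.zz] at hd2; exact absurd hd2.symm hs.ne
    · exact Or.inl e
    · exact Or.inr e

end CfsgLib.EightAbelian
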