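import Cfsg.Prelude.Def_Solvable
import Cfsg.Agent.Lib.EightAbelian.Structure
import Cfsg.Agent.Lib.PSolvable
import Cfsg.Agent.Lib.PGroup.RankTwoNormal

/-!
A group whose normal self-centralizing two-subgroup has no noncyclic abelian subgroup of order eight.
-/

set_option autoImplicit false

namespace CfsgLib.EightAbelian

universe u

variable {S : Type u} [Group S]

theorem Has8.comap {Q : Subgroup S} (h : Has8 Q) : Has8 (⊤ : Subgroup Q) := by
  obtain ⟨A, hA, hc, hn, hcard⟩ := h
  let e := Subgroup.subgroupOfEquivOfLe hA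
  refine ⟨A.subgroupOf Q, le_top, ⟨⟨fun a b => e.injective (by rw [map_mul, map_mul, hc.is_comm.comm])⟩⟩,
    fun h' => hn ?_, (Nat.card_congr e.toEquiv).trans hcard⟩
  haveI := h'
  exact isCyclic_of_surjective e e.surjective

/-- A normal self-centralizing two-subgroup has such a subgroup if the whole group has one. -/
theorem has8_normal [Finite S] {Q : Subgroup S} [Q.Normal] (hQ : IsPGroup 2 Q)
    (hC : Subgroup.centralizer (Q : Set S) ≤ Q) (hS : ¬ IsPGroup 2 S) (h8 : Has8 (⊤ : Subgroup S)) : Has8 Q := by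
  classical
  haveI : Fact (Nat.Prime 2) := ⟨Nat.prime_two⟩
  by_contra hQ8
  obtain ⟨α, hα, hα1⟩ : ∃ α : MulAut Q, Odd (orderOf α) ∧ α ≠ 1 := by
    obtain ⟨g, hg⟩ : ∃ g : S, ¬ ∃ k, orderOf g = 2 ^ k := by
      by_contra h
      push Not at h
      exact hS (IsPGroup.iff_orderOf.mpr h)
    obtain ⟨e, m, hm, hem⟩ := Nat.exists_eq_pow_mul_and_not_dvd (orderOf_pos g).ne' 2 (by norm_num)
    set x := g ^ 2 ^ e with hx
    have hxo : orderOf x = m := by
      rw [hx, orderOf_pow' g (by positivity), hem, Nat.gcd_eq_right (Dvd.intro _ rfl),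
        Nat.mul_div_cancel_left _ (by positivity)]
    have hxQ : x ∉ Q := by
      intro h
      obtain ⟨k, hk⟩ := IsPGroup.iff_orderOf.mp hQ ⟨x, h⟩
      rw [← Subgroup.orderOf_coe, show ((⟨x, h⟩ : Q) : S) = x from rfl, hxo] at hk
      rcases Nat.eq_zero_or_pos k with rfl | hk0
      · exact hg ⟨e, by rw [hem, hk]; simp⟩
      · exact hm (hk ▸ dvd_pow_self 2 hk0.ne')
    refine ⟨MulAut.conjNormal x, Odd.of_dvd_nat ?_ (orderOf_map_dvd (MulAut.conjNormal (H := Q)) x), fun h => hxQ (hC ?_)⟩
    · rw [hxo]; exact Nat.odd_iff.mpr (by omega)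
    · refine Subgroup.mem_centralizer_iff.mpr fun q hq => ?_
      have h1 := congrArg Subtype.val (DFunLike.congr_fun h ⟨q, hq⟩)
      simp only [MulAut.conjNormal_apply, MulAut.one_apply] at h1
      exact (mul_inv_eq_iff_eq_mul.mp h1).symm
  obtain ⟨A, -, hA, hAn, hA8⟩ := h8
  have hAc : ∀ a ∈ A, ∀ b ∈ A, Commute a b := fun a ha b hb => congrArg Subtype.val (hA.is_comm.comm (⟨a, ha⟩ : A) ⟨b, hb⟩)
  obtain ⟨X, hX⟩ := (IsPGroup.of_card (n := 3) (by rw [hA8]; norm_num) : IsPGroup 2 A).exists_le_sylow
  have hQX : Q ≤ (X : Subgroup S) := hQ.le_sylow_of_normal X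
  haveI := X.isPGroup'.isNilpotent
  have hqmem : ∀ (g : S) {q : S}, q ∈ Q → g * q * g⁻¹ ∈ Q := fun g _ hq => Subgroup.Normal.conj_mem inferInstance _ hq g
  -- the elements of `A` moving `w` share a coset
  have hcover : ∀ (K : Subgroup S) (mv : S → Prop), K ≤ A → (∀ a ∈ A, a ∈ K ∨ mv a) →
      (∀ g h, g ∈ A → h ∈ A → mv g → mv h → g⁻¹ * h ∈ K) → 4 ≤ Nat.card K := by
    intro K mv hKA hcases hprod
    by_cases hAK : A ≤ K
    · have := Subgroup.card_le_of_le hAK; omega
    obtain ⟨g, hgA, hgK⟩ := SetLike.not_le_iff_exists.mp hAK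
    have hgg : g * g ∈ K := (hcases _ (A.mul_mem hgA hgA)).elim id fun h => by
      have := hprod g _ hgA (A.mul_mem hgA hgA) ((hcases g hgA).resolve_left hgK) h
      rw [inv_mul_cancel_left] at this
      exact absurd this hgK
    obtain ⟨W, hW, hWc⟩ := double K hgK (fun v hv => by rw [(hAc g hgA v (hKA hv)).eq, mul_inv_cancel_right]; exact hv) hgg
    have hAW : A ≤ W := fun a ha => (hW a).mpr ((hcases a ha).elim Or.inl fun h =>
      Or.inr (hprod g a hgA ha ((hcases g hgA).resolve_left hgK) h))
    have := Subgroup.card_le_of_le hAW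
    omega
  rcases moved hQ (fun h => hQ8 h.map_subtype) hα hα1 with ⟨h4, he⟩ | ⟨z, x, y, hs, hxy, hx, hy, hc8, hinv⟩
  · have he' : ∀ q ∈ Q, q * q = 1 := fun q hq => congrArg Subtype.val (he ⟨q, hq⟩)
    have hQc : IsMulCommutative Q := ⟨⟨fun a b => by
      have h1 := inv_eq_of_mul_eq_one_right (he (a * b))
      rw [mul_inv_rev, inv_eq_of_mul_eq_one_right (he a), inv_eq_of_mul_eq_one_right (he b)] at h1
      exact h1.symm⟩⟩
    have hQbot : (Q.subgroupOf (X : Subgroup S)) ≠ ⊥ := fun e => by
      have h1 := Nat.card_congr (Subgroup.subgroupOfEquivOfLe hQX).toEquiv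
      rw [e, Subgroup.card_bot, h4] at h1
      omega
    obtain ⟨v, hvm, hv1⟩ := (Subgroup.bot_or_exists_ne_one _).resolve_left (CfsgLib.inf_center_ne_bot_of_nilpotent hQbot)
    obtain ⟨hv, hvc⟩ := Subgroup.mem_inf.mp hvm
    have hvQ : (v : S) ∈ Q := Subgroup.mem_subgroupOf.mp hv
    have hvA : ∀ a ∈ A, Commute a (v : S) := fun a ha => congrArg Subtype.val (Subgroup.mem_center_iff.mp hvc ⟨a, hX ha⟩)
    obtain ⟨w, hw, hw1, hwv, hmem⟩ := four_split hQc h4 he' hvQ (fun e => hv1 (Subtype.ext e))
    let K : Subgroup S := A ⊓ Subgroup.centralizer ({w} : Set S)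
    have hKQ : K ≤ Q := fun k hk => hC (Subgroup.mem_centralizer_iff.mpr fun q hq => by
      obtain ⟨hkA, hkw⟩ := Subgroup.mem_inf.mp hk
      have hkw' : Commute k w := (Subgroup.mem_centralizer_singleton_iff.mp hkw : k * w = w * k)
      rcases (hmem q).mp hq with e | e | e | e <;> rw [e]
      exacts [by simp, (hvA k hkA).eq.symm, hkw'.eq.symm, (hkw'.mul_right (hvA k hkA)).eq.symm])
    have h4K := hcover K (fun a => a * w * a⁻¹ = w * v) inf_le_left (fun a ha => by
      rcases (hmem _).mp (hqmem a hw) with e | e | e | e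
      · exact absurd (conj_eq_one_iff.mp e) hw1
      · refine absurd ?_ hwv
        calc w = a⁻¹ * (a * w * a⁻¹) * a := by group
          _ = v := by rw [e, mul_assoc, ← (hvA a ha).eq, inv_mul_cancel_left]
      · exact Or.inl (Subgroup.mem_inf.mpr ⟨ha, Subgroup.mem_centralizer_singleton_iff.mpr (mul_inv_eq_iff_eq_mul.mp e)⟩)
      · exact Or.inr e) (fun g h hg hh e e' => Subgroup.mem_inf.mpr ⟨A.mul_mem (A.inv_mem hg) hh, by
        refine Subgroup.mem_centralizer_singleton_iff.mpr ?_
        calc g⁻¹ * h * w = g⁻¹ * (h * w * h⁻¹) * h := by group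
          _ = g⁻¹ * (g * w * g⁻¹) * h := by rw [e, e']
          _ = w * (g⁻¹ * h) := by group⟩)
    have hKeq : K = Q := Subgroup.eq_of_le_of_card_ge hKQ (by omega)
    have hAQ : A ≤ Q := fun a ha => hC (Subgroup.mem_centralizer_iff.mpr fun q hq =>
      (hAc q ((show K ≤ A from inf_le_left) (hKeq.symm ▸ hq)) a ha).eq)
    have := Subgroup.card_le_of_le hAQ
    omega
  · -- the quaternion group
    have hzc : ∀ g : S, Commute g (z : S) := by
      intro g
      have h1 : (⟨g * z * g⁻¹, hqmem g z.2⟩ : Q) * ⟨g * z * g⁻¹, hqmem g z.2⟩ = 1 := Subtype.ext (by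
        show g * z * g⁻¹ * (g * z * g⁻¹) = 1
        calc g * z * g⁻¹ * (g * z * g⁻¹) = g * ((z * z : Q) : S) * g⁻¹ := by push_cast; group
          _ = 1 := by rw [hs.zz]; simp)
      rcases hinv _ h1 with e | e
      · exact absurd (Subtype.ext (conj_eq_one_iff.mp (congrArg Subtype.val e))) hs.ne
      · exact mul_inv_eq_iff_eq_mul.mp (congrArg Subtype.val e)
    haveI : (Q.subgroupOf (X : Subgroup S)).Normal := inferInstance
    obtain ⟨M, hMn, hMQ, hM4⟩ := CfsgLib.PGroupRankTwo.exists_normal_card (p := 2) X.isPGroup'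
      (Q.subgroupOf (X : Subgroup S)) 2 (by rw [Nat.card_congr (Subgroup.subgroupOfEquivOfLe hQX).toEquiv, hc8]; norm_num)
    obtain ⟨u, huM, hu2⟩ : ∃ u ∈ M, ((u : S) * u ≠ 1) := by
      by_contra h
      push Not at h
      have hle : M.map (Subgroup.subtype _) ≤ (Subgroup.zpowers z).map Q.subtype := by
        rintro _ ⟨u, hu, rfl⟩
        have huQ : (u : S) ∈ Q := Subgroup.mem_subgroupOf.mp (hMQ hu)
        rcases hinv ⟨u, huQ⟩ (Subtype.ext (h u hu)) with e | e
        · exact ⟨1, one_mem _, (congrArg Subtype.val e).symm⟩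
        · exact ⟨z, Subgroup.mem_zpowers z, (congrArg Subtype.val e).symm⟩
      have h1 := Subgroup.card_le_of_le hle
      rw [Subgroup.card_map_of_injective (Subgroup.subtype_injective _),
        Subgroup.card_map_of_injective (Subgroup.subtype_injective _), hM4, Nat.card_zpowers,
        orderOf_eq_prime (p := 2) (by rw [pow_two, hs.zz]) hs.ne] at h1
      omega
    have huQ : (u : S) ∈ Q := Subgroup.mem_subgroupOf.mp (hMQ huM)
    set U : Q := ⟨u, huQ⟩ with hU
    have hUz : U * U = z := (hs.sq U).resolve_left fun e => hu2 (congrArg Subtype.val e)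
    have hnc : ∀ k : Q, k * k = z → ∃ w : Q, ¬ Commute k w := fun k hk => by
      by_contra h
      push Not at h
      exact hQ8 (hs.has8_quad hxy hk h).map_subtype
    have hall : ∀ k w : Q, ¬ Commute k w → k * k = z → ∀ g : Q,
        g = 1 ∨ g = z ∨ g = k ∨ g = k * z ∨ g = w ∨ g = w * z ∨ g = w * k ∨ g = w * (k * z) := fun k w hkw hk g => by
      obtain ⟨W, hW8, -, -, hW⟩ := hs.sub8 hkw hk
      exact (hW g).mp ((eq_top_of_card (K := W) (by omega)).symm ▸ Subgroup.mem_top g)
    -- conjugation
    let c : S → Q → Q := fun a q => ⟨a * q * a⁻¹, hqmem a q.2⟩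
    have hcmul : ∀ a (p q : Q), c a (p * q) = c a p * c a q := fun a p q => Subtype.ext (by
      show a * (p * q : S) * a⁻¹ = a * p * a⁻¹ * (a * q * a⁻¹); group)
    have hcc : ∀ a b (q : Q), c (a * b) q = c a (c b q) := fun a b q => Subtype.ext (by
      show a * b * (q : S) * (a * b)⁻¹ = a * (b * q * b⁻¹) * a⁻¹; group)
    have hcinj : ∀ a (p q : Q), c a p = c a q → p = q := fun a p q h =>
      Subtype.ext (mul_left_cancel (mul_right_cancel (congrArg Subtype.val h)))
    have hcz : ∀ a, c a z = z := fun a => Subtype.ext (by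
      show a * (z : S) * a⁻¹ = z; rw [(hzc a).eq, mul_inv_cancel_right])
    have hc1 : ∀ a, c a 1 = 1 := fun a => Subtype.ext (by simp [c])
    have hcq : ∀ (r q : Q), c (r : S) q = r * q * r⁻¹ := fun r q => rfl
    -- an element fixing two generators up to `z` lies in `Q`
    have hswap : ∀ k w : Q, ¬ Commute k w → k * w * k⁻¹ = w * z := fun k w hkw => by
      rw [hs.swap (fun h : Commute w k => hkw h.symm), mul_assoc w k z, ← (hs.central k).eq, ← mul_assoc,
        mul_inv_cancel_right]
    have hinQ : ∀ k w : Q, ¬ Commute k w → k * k = z → ∀ a : S, (c a k = k ∨ c a k = k * z) →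
        (c a w = w ∨ c a w = w * z) → a ∈ Q := by
      intro k w hkw hk
      have hfix : ∀ m : S, c m k = k → c m w = w → m ∈ Q := fun m h1 h2 => hC (Subgroup.mem_centralizer_iff.mpr fun q hq => by
        have h3 : c m ⟨q, hq⟩ = ⟨q, hq⟩ := by
          rcases hall k w hkw hk ⟨q, hq⟩ with e | e | e | e | e | e | e | e <;> rw [e] <;>
            simp only [hcmul, hc1, hcz, h1, h2]
        exact (mul_inv_eq_iff_eq_mul.mp (congrArg Subtype.val h3 : m * q * m⁻¹ = q)).symm)
      have hfix1 : ∀ m : S, c m k = k → (c m w = w ∨ c m w = w * z) → m ∈ Q := fun m h1 h2 => by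
        rcases h2 with h2 | h2
        · exact hfix m h1 h2
        · refine (Subgroup.mul_mem_cancel_left Q k.2).mp (hfix ((k : S) * m) ?_ ?_)
          · rw [hcc, h1, hcq, mul_inv_cancel_right]
          · rw [hcc, h2, hcmul, hcz, hcq, hswap k w hkw, mul_assoc, hs.zz, mul_one]
      intro a h1 h2
      rcases h1 with h1 | h1
      · exact hfix1 a h1 h2
      · refine (Subgroup.mul_mem_cancel_left Q w.2).mp (hfix1 ((w : S) * a) ?_ ?_)
        · rw [hcc, h1, hcmul, hcz, hcq, hswap w k (fun h => hkw h.symm), mul_assoc, hs.zz, mul_one]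
        · rcases h2 with h2 | h2
          · exact Or.inl (by rw [hcc, h2, hcq, mul_inv_cancel_right])
          · exact Or.inr (by rw [hcc, h2, hcmul, hcz, hcq, mul_inv_cancel_right])
    have hmoves : ∀ k w : Q, ¬ Commute k w → k * k = z → ∀ a : S, (c a k = k ∨ c a k = k * z) →
        (c a w = w ∨ c a w = w * z) ∨ (c a w = w * k ∨ c a w = w * (k * z)) := by
      intro k w hkw hk a h1
      have hne : ∀ t : Q, Commute k t → w ≠ t := fun t ht e => hkw (e ▸ ht)
      rcases hall k w hkw hk (c a w) with e | e | e | e | e | e | e | e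
      · exact absurd (hcinj a w 1 (e.trans (hc1 a).symm)) (hne 1 (Commute.one_right k))
      · exact absurd (hcinj a w z (e.trans (hcz a).symm)) (hne z (hs.central k).symm)
      · rcases h1 with h1 | h1
        · exact absurd (hcinj a w k (e.trans h1.symm)) (hne k (Commute.refl k))
        · refine absurd (hcinj a w (k * z) (e.trans ?_)) (hne _ ((Commute.refl k).mul_right (hs.central k).symm))
          rw [hcmul, hcz, h1, mul_assoc, hs.zz, mul_one]
      · rcases h1 with h1 | h1
        · refine absurd (hcinj a w (k * z) (e.trans ?_)) (hne _ ((Commute.refl k).mul_right (hs.central k).symm))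
          rw [hcmul, hcz, h1]
        · exact absurd (hcinj a w k (e.trans h1.symm)) (hne k (Commute.refl k))
      · exact Or.inl (Or.inl e)
      · exact Or.inl (Or.inr e)
      · exact Or.inr (Or.inl e)
      · exact Or.inr (Or.inr e)
    obtain ⟨w, hUw⟩ := hnc U hUz
    have hcU : ∀ a ∈ A, c a U = U ∨ c a U = U * z := by
      intro a ha
      have hmem : a * (u : S) * a⁻¹ ∈ M.map (Subgroup.subtype _) :=
        ⟨⟨a, hX ha⟩ * u * (⟨a, hX ha⟩)⁻¹, hMn.conj_mem u huM _, rfl⟩
      have hsub : M.map (Subgroup.subtype _) ≤ (Subgroup.zpowers U).map Q.subtype := by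
        have hle : (Subgroup.zpowers U).map Q.subtype ≤ M.map (Subgroup.subtype _) := by
          rw [MonoidHom.map_zpowers, Subgroup.zpowers_le]
          exact ⟨u, huM, rfl⟩
        refine (Subgroup.eq_of_le_of_card_ge hle ?_).ge
        rw [Subgroup.card_map_of_injective (Subgroup.subtype_injective _),
          Subgroup.card_map_of_injective (Subgroup.subtype_injective _), hM4, Nat.card_zpowers,
          orderOf_eq_prime_pow (p := 2) (n := 1) (by rw [pow_one, pow_two, hUz]; exact hs.ne)
            (by rw [show (2 : ℕ) ^ (1 + 1) = 2 * 2 by norm_num, pow_mul, pow_two U, hUz, pow_two, hs.zz])]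
      obtain ⟨q, ⟨i, hi⟩, hq⟩ := hsub hmem
      have hq' : q = c a U := Subtype.ext hq
      have hco : Commute (c a U) U := by rw [← hq', ← hi]; exact (Commute.refl U).zpow_left i
      rcases hall U w hUw hUz (c a U) with e | e | e | e | e | e | e | e
      · exact absurd (hcinj a U 1 (e.trans (hc1 a).symm)) fun e' => hs.ne (by rw [← hUz, e', mul_one])
      · exact absurd (hcinj a U z (e.trans (hcz a).symm)) fun e' => hs.ne (by rw [← hUz, e', hs.zz])
      · exact Or.inl e
      · exact Or.inr e
      all_goals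
        exfalso
        apply hUw
        rw [e] at hco
      · exact hco.symm
      · have := hco.mul_left (hs.central U).inv_left
        rw [mul_inv_cancel_right] at this
        exact this.symm
      · have := hco.mul_left (Commute.refl U).inv_left
        rw [mul_inv_cancel_right] at this
        exact this.symm
      · have := hco.mul_left (((Commute.refl U).mul_left (hs.central U)).inv_left)
        rw [mul_inv_cancel_right] at this
        exact this.symm
    let K : Subgroup S :=
      { carrier := {a | a ∈ A ∧ (c a w = w ∨ c a w = w * z)}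
        one_mem' := ⟨A.one_mem, Or.inl (Subtype.ext (by simp [c]))⟩
        mul_mem' := by
          rintro a b ⟨ha, h⟩ ⟨hb, h'⟩
          refine ⟨A.mul_mem ha hb, ?_⟩
          rw [hcc]
          rcases h' with e | e <;> rw [e]
          · exact h
          · rw [hcmul, hcz]
            rcases h with e' | e' <;> rw [e']
            · exact Or.inr rfl
            · exact Or.inl (by rw [mul_assoc, hs.zz, mul_one])
        inv_mem' := by
          rintro a ⟨ha, h⟩
          refine ⟨A.inv_mem ha, ?_⟩
          rcases h with e | e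
          · refine Or.inl (hcinj a _ _ ?_)
            rw [← hcc, mul_inv_cancel, e]
            exact Subtype.ext (by simp [c])
          · refine Or.inr (hcinj a _ _ ?_)
            rw [← hcc, mul_inv_cancel, hcmul, hcz, e, mul_assoc, hs.zz, mul_one]
            exact Subtype.ext (by simp [c]) }
    have hKQ : ∀ a ∈ K, a ∈ Q := fun a ha => hinQ U w hUw hUz a (hcU a ha.1) ha.2
    have h4K := hcover K (fun a => c a w = w * U ∨ c a w = w * (U * z)) (fun a ha => ha.1)
      (fun a ha => (hmoves U w hUw hUz a (hcU a ha)).elim (fun h => Or.inl ⟨ha, h⟩) Or.inr)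
      (fun g h hg hh e e' => by
        refine ⟨A.mul_mem (A.inv_mem hg) hh, ?_⟩
        have hgg : c g⁻¹ (c g w) = w := by
          rw [← hcc, inv_mul_cancel]; exact Subtype.ext (by simp [c])
        have key : c h w = c g w ∨ c h w = c g w * z := by
          rcases e with e | e <;> rcases e' with e' | e' <;> rw [e, e']
          · exact Or.inl rfl
          · exact Or.inr (mul_assoc _ _ _).symm
          · exact Or.inr (by rw [mul_assoc, mul_assoc, hs.zz, mul_one])
          · exact Or.inl rfl
        rw [hcc]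
        rcases key with k | k <;> rw [k]
        · exact Or.inl hgg
        · exact Or.inr (by rw [hcmul, hcz, hgg]))
    obtain ⟨k, hkA, hkz⟩ : ∃ k : Q, (k : S) ∈ A ∧ k * k = z := by
      by_contra h
      push Not at h
      have hle : K ≤ (Subgroup.zpowers z).map Q.subtype := fun a ha => by
        rcases hinv ⟨a, hKQ a ha⟩ ((hs.sq _).resolve_right (h ⟨a, hKQ a ha⟩ ha.1)) with e | e
        · exact ⟨1, one_mem _, (congrArg Subtype.val e).symm⟩
        · exact ⟨z, Subgroup.mem_zpowers z, (congrArg Subtype.val e).symm⟩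
      have h1 := Subgroup.card_le_of_le hle
      rw [Subgroup.card_map_of_injective (Subgroup.subtype_injective _), Nat.card_zpowers,
        orderOf_eq_prime (p := 2) (by rw [pow_two, hs.zz]) hs.ne] at h1
      omega
    obtain ⟨t, htA, htt, ht1, htz⟩ : ∃ t ∈ A, t * t = 1 ∧ t ≠ 1 ∧ t ≠ (z : S) := by
      by_contra h
      push Not at h
      have hzA : (z : S) ∈ A := congrArg Subtype.val hkz ▸ A.mul_mem hkA hkA
      have huniq : CfsgLib.Frob.UniqSub 2 A := by
        have key : ∀ H : Subgroup A, Nat.card H = 2 → H = Subgroup.zpowers (⟨z, hzA⟩ : A) := by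
          intro H hH
          refine Subgroup.eq_of_le_of_card_ge (fun g hg => ?_) ?_
          · have h1 : g ^ 2 = 1 := orderOf_dvd_iff_pow_eq_one.mp ((Subgroup.orderOf_dvd_natCard H hg).trans hH.dvd)
            by_cases hg1 : g = 1
            · rw [hg1]; exact one_mem _
            · have h2 := h g g.2 (by have := congrArg Subtype.val h1; simpa [pow_two] using this) fun e => hg1 (Subtype.ext e)
              rw [show g = ⟨z, hzA⟩ from Subtype.ext h2]; exact Subgroup.mem_zpowers _
          · rw [hH, Nat.card_zpowers]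
            exact Nat.le_of_dvd two_pos (orderOf_dvd_of_pow_eq_one (Subtype.ext (by
              have := congrArg Subtype.val hs.zz; simpa [pow_two] using this)))
        exact fun H K hH hK => (key H hH).trans (key K hK).symm
      haveI := hA
      exact hAn (huniq.cyclic_of_comm (IsPGroup.of_card (n := 3) (by rw [hA8]; norm_num)))
    have htQ : t ∉ Q := fun h => by
      rcases hinv ⟨t, h⟩ (Subtype.ext htt) with e | e
      exacts [ht1 (congrArg Subtype.val e), htz (congrArg Subtype.val e)]
    obtain ⟨j, hkj⟩ := hnc k hkz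
    have hck : c t k = k := Subtype.ext (by
      show t * (k : S) * t⁻¹ = k; rw [(hAc t htA k hkA).eq, mul_inv_cancel_right])
    rcases hmoves k j hkj hkz t (Or.inl hck) with h | h
    · exact htQ (hinQ k j hkj hkz t (Or.inl hck) h)
    · have h2 : c t (c t j) = j := by rw [← hcc, htt]; exact Subtype.ext (by simp [c])
      have hne : j * z ≠ j := fun e => hs.ne (mul_eq_left.mp e)
      rcases h with e | e
      · rw [e, hcmul, e, hck, mul_assoc, hkz] at h2
        exact hne h2
      · rw [e, hcmul, hcmul, hcz, e, hck, mul_assoc, (Commute.refl (k * z)).eq] at h2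
        rw [(hs.central k).mul_mul_mul_comm, hkz, hs.zz, mul_one] at h2
        exact hne h2

end CfsgLib.EightAbelian
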