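import Cfsg.Agent.Lib.EightAbelian.Split

/-!
Two-groups without noncyclic abelian subgroups of order eight and their automorphisms of odd order.
-/

set_option autoImplicit false

namespace CfsgLib.EightAbelian

universe u

variable {P : Type u} [Group P]

/-- An automorphism of odd order fixes `x` once it fixes `x⁻¹ α x`. -/
theorem fix_step (hP : IsPGroup 2 P) {α : MulAut P} (hα : Odd (orderOf α)) {x : P}
    (h : α (x⁻¹ * α x) = x⁻¹ * α x) : α x = x :=
  CfsgLib.Small.apply_eq_self_of_step hP (Nat.Coprime.symm hα.coprime_two_left) h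

/-- An automorphism of odd order preserving a cyclic subgroup centralizes it. -/
theorem fix_cyclic (hP : IsPGroup 2 P) [Finite P] {α : MulAut P} (hα : Odd (orderOf α)) :
    ∀ (n : ℕ) (c : P), orderOf c ≤ n → α c ∈ Subgroup.zpowers c → α c = c := by
  intro n
  induction n with
  | zero => intro c hc; have := orderOf_pos c; omega
  | succ n ih =>
    intro c hc hmem
    by_cases hc1 : c = 1
    · rw [hc1, map_one]
    have h2 : orderOf (c * c) ≤ n := by
      obtain ⟨k, hk⟩ := IsPGroup.iff_orderOf.mp hP c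
      obtain ⟨j, rfl⟩ : ∃ j, k = j + 1 := ⟨k - 1, by
        have : k ≠ 0 := fun e => hc1 (orderOf_eq_one_iff.mp (by rw [hk, e, pow_zero]))
        omega⟩
      have h1 : orderOf (c * c) ∣ 2 ^ j := orderOf_dvd_of_pow_eq_one (by
        rw [← pow_two, ← pow_mul, ← pow_succ', ← hk, pow_orderOf_eq_one])
      have := Nat.le_of_dvd (by positivity) h1
      rw [pow_succ] at hk
      omega
    obtain ⟨i, hi⟩ := hmem
    have hi' : c ^ i = α c := hi
    have hfix : α (c * c) = c * c := ih (c * c) h2 ⟨i, by
      show (c * c) ^ i = α (c * c)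
      rw [map_mul, ← hi', (Commute.refl c).mul_zpow]⟩
    rcases Int.even_or_odd i with ⟨k, rfl⟩ | ⟨k, rfl⟩
    · have h3 : α (α c) = α c := by
        rw [← hi', zpow_add, ← (Commute.refl c).mul_zpow, map_zpow, hfix]
      exact α.injective h3
    · refine fix_step hP hα ?_
      have h3 : c⁻¹ * α c = (c * c) ^ k := by
        rw [← hi', (Commute.refl c).mul_zpow, ← zpow_neg_one, ← zpow_add, ← zpow_add]
        congr 1
        ring
      rw [h3, map_zpow, hfix]

/-- The four group lemma: elements of a four group containing a given involution. -/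
theorem four_split [Finite P] {V : Subgroup P} (hV : IsMulCommutative ↥V) (h4 : Nat.card V = 4)
    (he : ∀ v ∈ V, v * v = 1) {v : P} (hv : v ∈ V) (hv1 : v ≠ 1) :
    ∃ w ∈ V, w ≠ 1 ∧ w ≠ v ∧ ∀ x, x ∈ V ↔ x = 1 ∨ x = v ∨ x = w ∨ x = w * v := by
  obtain ⟨w, hw, hwv⟩ : ∃ w ∈ V, w ∉ Subgroup.zpowers v := by
    by_contra h
    push Not at h
    have hle : V ≤ Subgroup.zpowers v := h
    have := Subgroup.card_le_of_le hle
    rw [h4, Nat.card_zpowers, orderOf_eq_prime (p := 2) (by rw [pow_two, he v hv]) hv1] at this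
    omega
  have hc : Commute v w := congrArg Subtype.val (hV.is_comm.comm (⟨v, hv⟩ : V) ⟨w, hw⟩)
  obtain ⟨W, -, hW4, -, hmem⟩ := four_mk (he v hv) (he w hw) hv1 hwv hc
  have hWV : W = V := Subgroup.eq_of_le_of_card_ge (fun x hx => by
    rcases (hmem x).mp hx with e | e | e | e <;> rw [e]
    exacts [V.one_mem, hv, hw, V.mul_mem hw hv]) (by rw [h4, hW4])
  refine ⟨w, hw, fun e => hwv (e ▸ one_mem _), fun e => hwv (e ▸ Subgroup.mem_zpowers v), fun x => ?_⟩
  rw [← hWV]; exact hmem x

/-- A self-centralizing characteristic four group: order eight at most, and then no odd automorphisms. -/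
theorem four_char [Finite P] (hP : IsPGroup 2 P) {V : Subgroup P} (hVc : V.Characteristic) (hV : IsMulCommutative ↥V)
    (h4 : Nat.card V = 4) (he : ∀ v ∈ V, v * v = 1) (hC : Subgroup.centralizer (V : Set P) = V) :
    V = ⊤ ∨ (Nat.card P = 8 ∧ ∀ α : MulAut P, Odd (orderOf α) → α = 1) := by
  haveI : Fact (Nat.Prime 2) := ⟨Nat.prime_two⟩
  haveI := hVc
  by_cases htop : V = ⊤
  · exact Or.inl htop
  right
  haveI := hP.isNilpotent
  have hVbot : V ≠ ⊥ := fun e => by rw [e, Subgroup.card_bot] at h4; omega
  obtain ⟨v, hvm, hv1⟩ := (Subgroup.bot_or_exists_ne_one _).resolve_left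
    (CfsgLib.inf_center_ne_bot_of_nilpotent hVbot)
  obtain ⟨hv, hvc⟩ := Subgroup.mem_inf.mp hvm
  have hvz : ∀ g, Commute v g := fun g => (Subgroup.mem_center_iff.mp hvc g).symm
  obtain ⟨w, hw, hw1, hwv, hmem⟩ := four_split hV h4 he hv hv1
  have hin : ∀ g, Commute g w → g ∈ V := fun g hg => by
    rw [← hC]
    refine Subgroup.mem_centralizer_iff.mpr fun x hx => ?_
    rcases (hmem x).mp hx with e | e | e | e <;> rw [e]
    · simp
    · exact (hvz g).eq
    · exact hg.eq.symm
    · exact (hg.mul_right (hvz g).symm).eq.symm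
  have hconj : ∀ g, g ∉ V → g * w * g⁻¹ = w * v := fun g hg => by
    rcases (hmem _).mp (Subgroup.Normal.conj_mem inferInstance w hw g) with e | e | e | e
    · exact absurd (by simpa using e) hw1
    · refine absurd ?_ hwv
      have := congrArg (fun t => g⁻¹ * t * g) e
      simpa [mul_assoc, ← (hvz g⁻¹).eq] using this
    · exact absurd (hin g (mul_inv_eq_iff_eq_mul.mp e)) hg
    · exact e
  have hprod : ∀ g h, g ∉ V → h ∉ V → g⁻¹ * h ∈ V := fun g h hg hh => by
    apply hin
    have e : h * w * h⁻¹ = g * w * g⁻¹ := by rw [hconj g hg, hconj h hh]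
    show g⁻¹ * h * w = w * (g⁻¹ * h)
    calc g⁻¹ * h * w = g⁻¹ * (h * w * h⁻¹) * h := by group
      _ = g⁻¹ * (g * w * g⁻¹) * h := by rw [e]
      _ = w * (g⁻¹ * h) := by group
  obtain ⟨g₀, hg₀⟩ : ∃ g, g ∉ V := by
    by_contra h
    push Not at h
    exact htop (eq_top_iff.mpr fun g _ => h g)
  obtain ⟨W, hW, hWc⟩ := double V hg₀ (fun x hx => Subgroup.Normal.conj_mem inferInstance x hx g₀) (by
    by_contra h
    have h1 := hprod g₀ _ hg₀ h
    rw [inv_mul_cancel_left] at h1
    exact hg₀ h1)
  have hWtop : W = ⊤ := eq_top_iff.mpr fun g _ => (hW g).mpr (by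
    by_cases hg : g ∈ V
    · exact Or.inl hg
    · exact Or.inr (hprod g₀ g hg₀ hg))
  refine ⟨by rw [← Subgroup.card_top (G := P), ← hWtop, hWc, h4], fun α hα => ?_⟩
  have hmapV : ∀ x, x ∈ V → α x ∈ V := fun x hx => CfsgLib.SymplecticTypeP.char_mem hVc α hx
  have hmapV' : ∀ x, α x ∈ V → x ∈ V := fun x hx => by
    have := CfsgLib.SymplecticTypeP.char_mem hVc α.symm hx
    simpa using this
  have hwnc : ∃ g, ¬ Commute g w := ⟨g₀, fun h => hg₀ (hin g₀ h)⟩
  have hαv : α v = v := by
    rcases (hmem _).mp (hmapV v hv) with e | e | e | e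
    · exact absurd (α.injective (e.trans (map_one α).symm)) hv1
    · exact e
    all_goals
      obtain ⟨g, hg⟩ := hwnc
      refine absurd ?_ hg
      have h1 : Commute (α v) g := by
        have := (hvz (α.symm g)).map α.toMonoidHom
        simpa using this
      rw [e] at h1
    · exact h1.symm
    · have := h1.symm.mul_right (hvz g).symm
      rwa [mul_assoc, he v hv, mul_one] at this
  have hαw : α w = w := by
    rcases (hmem _).mp (hmapV w hw) with e | e | e | e
    · exact absurd (α.injective (e.trans (map_one α).symm)) hw1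
    · exact absurd (α.injective (e.trans hαv.symm)) hwv
    · exact e
    · refine fix_step hP hα ?_
      rw [e, inv_mul_cancel_left, hαv]
  have hfixV : ∀ x ∈ V, α x = x := fun x hx => by
    rcases (hmem x).mp hx with e | e | e | e <;> rw [e]
    exacts [map_one α, hαv, hαw, by rw [map_mul, hαw, hαv]]
  ext x
  by_cases hx : x ∈ V
  · simpa using hfixV x hx
  · have h1 : x⁻¹ * α x ∈ V := hprod x (α x) hx fun h => hx (hmapV' x h)
    simpa using fix_step hP hα (hfixV _ h1)

/-- Two noncommuting elements squaring to `z` leave `z` as the only involution among their products. -/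
theorem q8_inv {z : P} (hs : Sq z) {x y : P} (hxy : ¬ Commute x y) (hx : x * x = z) (hy : y * y = z) {t : P}
    (ht : t = 1 ∨ t = z ∨ t = x ∨ t = x * z ∨ t = y ∨ t = y * z ∨ t = y * x ∨ t = y * (x * z)) (htt : t * t = 1) :
    t = 1 ∨ t = z := by
  have hyx : y * x * (y * x) = z := by
    calc y * x * (y * x) = y * (x * y) * x := by group
      _ = y * (y * x * z) * x := by rw [hs.swap fun h : Commute y x => hxy h.symm]
      _ = (y * y) * (x * z) * x := by group
      _ = z * (x * z) * x := by rw [hy]
      _ = z * z * (x * x) := by rw [← (hs.central x).eq]; group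
      _ = z := by rw [hs.zz, hx, one_mul]
  have hz : ∀ u : P, u * u = z → (u * z) * (u * z) = z := fun u hu => by
    rw [(hs.central u).mul_mul_mul_comm, hu, hs.zz, mul_one]
  rcases ht with e | e | e | e | e | e | e | e
  · exact Or.inl e
  · exact Or.inr e
  all_goals rw [e] at htt
  · rw [hx] at htt; exact absurd htt hs.ne
  · rw [hz x hx] at htt; exact absurd htt hs.ne
  · rw [hy] at htt; exact absurd htt hs.ne
  · rw [hz y hy] at htt; exact absurd htt hs.ne
  · rw [hyx] at htt; exact absurd htt hs.ne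
  · rw [← mul_assoc y x z, hz _ hyx] at htt; exact absurd htt hs.ne

/-- A group of order eight generated by two noncommuting elements squaring to `z` is quaternion. -/
theorem q8_iso [Finite P] {z : P} (hs : Sq z) {x y : P} (hxy : ¬ Commute x y) (hx : x * x = z) (hy : y * y = z) :
    ∃ Q : Subgroup P, Nat.card Q = 8 ∧ x ∈ Q ∧ y ∈ Q ∧ Nonempty (↥Q ≃* QuaternionGroup (2 ^ 1)) := by
  haveI : Fact (Nat.Prime 2) := ⟨Nat.prime_two⟩
  obtain ⟨W, hW8, hxW, hyW, hW⟩ := hs.sub8 hxy hx
  refine ⟨W, hW8, hxW, hyW, ?_⟩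
  have hinv : ∀ t ∈ W, t * t = 1 → t = 1 ∨ t = z := fun t ht htt => q8_inv hs hxy hx hy ((hW t).mp ht) htt
  have hzW : z ∈ W := (hW z).mpr (Or.inr (Or.inl rfl))
  have huniq : CfsgLib.Frob.UniqSub 2 W := by
    have key : ∀ H : Subgroup W, Nat.card H = 2 → H = Subgroup.zpowers (⟨z, hzW⟩ : W) := by
      intro H hH
      refine Subgroup.eq_of_le_of_card_ge (fun g hg => ?_) ?_
      · have h1 : g ^ 2 = 1 := orderOf_dvd_iff_pow_eq_one.mp ((Subgroup.orderOf_dvd_natCard H hg).trans hH.dvd)
        rcases hinv g g.2 (by have := congrArg Subtype.val h1; simpa [pow_two] using this) with e | e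
        · rw [show g = 1 from Subtype.ext e]; exact one_mem _
        · rw [show g = ⟨z, hzW⟩ from Subtype.ext e]; exact Subgroup.mem_zpowers _
      · rw [hH, Nat.card_zpowers]
        exact Nat.le_of_dvd two_pos (orderOf_dvd_of_pow_eq_one (Subtype.ext (by simpa [pow_two] using hs.zz)))
    exact fun H K hH hK => (key H hH).trans (key K hK).symm
  have hWp : IsPGroup 2 W := IsPGroup.of_card (n := 3) (by rw [hW8]; norm_num)
  rcases CfsgLib.Frob.cyclic_or_quaternion_two hWp huniq with hc | ⟨k, ⟨e⟩⟩
  · exact absurd (congrArg Subtype.val (hc.isMulCommutative.is_comm.comm (⟨x, hxW⟩ : W) ⟨y, hyW⟩)) hxy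
  · have h1 : Nat.card W = 4 * 2 ^ k := by
      rw [Nat.card_congr e.toEquiv, Nat.card_eq_fintype_card, QuaternionGroup.card]
    rw [hW8] at h1
    obtain rfl : k = 1 := Nat.pow_right_injective le_rfl (show 2 ^ k = 2 ^ 1 by norm_num; omega)
    exact ⟨e⟩

/-- A group with central `d` squaring to `z` and two noncommuting elements has a subgroup of order eight. -/
theorem Sq.has8_quad [Finite P] {z d : P} (hs : Sq z) {a b : P} (hab : ¬ Commute a b) (hd : d * d = z)
    (hdc : ∀ g, Commute d g) : Has8 (⊤ : Subgroup P) := by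
  refine (hs.large hab ?_).1
  obtain ⟨x, y, hxy, hx, -⟩ : ∃ x y : P, ¬ Commute x y ∧ x * x = z ∧ True := by
    rcases hs.sq a with e | e
    · refine ⟨a * d, b, fun h => hab ?_, ?_, trivial⟩
      · have := h.mul_left (hdc b).inv_left
        rwa [mul_inv_cancel_right] at this
      · rw [(hdc a).mul_mul_mul_comm, e, hd, one_mul]
    · exact ⟨a, b, hab, e, trivial⟩
  obtain ⟨W, hW8, hxW, hyW, hW⟩ := hs.sub8 hxy hx
  have hd' : d ∉ W := fun h => by
    have hcase : ∀ u ∈ Subgroup.zpowers x, d = u → False := fun u ⟨i, hi⟩ e => by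
      subst hi
      -- a power of `x` that is central squares to one
      rcases Int.even_or_odd i with ⟨k, rfl⟩ | ⟨k, rfl⟩
      · have h2 : d * d = 1 := by
          rw [e]
          show x ^ (k + k) * x ^ (k + k) = 1
          rw [zpow_add, ← (Commute.refl x).mul_zpow, hx, ← (Commute.refl z).mul_zpow, hs.zz, one_zpow]
        exact hs.ne (hd ▸ h2)
      · apply hxy
        have h2 : x = (x ^ (2 * k)) ⁻¹ * d := by
          rw [e]
          show x = (x ^ (2 * k))⁻¹ * x ^ (2 * k + 1)
          rw [zpow_add, zpow_one, inv_mul_cancel_left]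
        rw [h2]
        refine Commute.mul_left ?_ (hdc y)
        rw [zpow_mul, zpow_two, hx]
        exact ((hs.central y).zpow_left k).inv_left
    rcases (hW d).mp h with e | e | e | e | e | e | e | e
    · exact hcase _ (one_mem _) e
    · exact hcase _ (mul_mem (Subgroup.mem_zpowers x) (Subgroup.mem_zpowers x)) (e.trans hx.symm)
    · exact hcase _ (Subgroup.mem_zpowers x) e
    · exact hcase _ (mul_mem (Subgroup.mem_zpowers x) (mul_mem (Subgroup.mem_zpowers x) (Subgroup.mem_zpowers x))) (by rw [e, hx])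
    all_goals
      apply hxy
      have h3 := e ▸ hdc x
    · exact h3.symm
    · have := h3.mul_left (hs.central x).inv_left
      rwa [mul_inv_cancel_right, Commute.symm_iff] at this
    · have := h3.mul_left (Commute.refl x).inv_left
      rwa [mul_inv_cancel_right, Commute.symm_iff] at this
    · have := h3.mul_left (((Commute.refl x).mul_left (hs.central x)).inv_left)
      rwa [mul_inv_cancel_right, Commute.symm_iff] at this
  by_contra hle
  have : W = ⊤ := eq_top_of_card (by omega)
  exact hd' (this ▸ Subgroup.mem_top d)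

/-- A cyclic group has two elements of order four. -/
theorem four_unique [Finite P] {c d t : P} (hdc : d ∈ Subgroup.zpowers c) (hd : d * d ≠ 1)
    (hd4 : d * d * (d * d) = 1) (htc : t ∈ Subgroup.zpowers c) (ht4 : t * t * (t * t) = 1) (ht : t * t ≠ 1) :
    t = d ∨ t = d⁻¹ := by
  haveI : Fact (Nat.Prime 2) := ⟨Nat.prime_two⟩
  have hdo : orderOf (d * d) = 2 := orderOf_eq_prime (by rw [pow_two, hd4]) hd
  have hz : ∀ u ∈ Subgroup.zpowers c, u * u = 1 → u = 1 ∨ u = d * d := fun u hu hu2 => by
    obtain ⟨i, hi⟩ := CfsgLib.SymplecticTypeP.mem_zpowers_of_pow (p := 2) (D := Subgroup.zpowers c) inferInstance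
      (mul_mem hdc hdc) hdo hu (by rw [pow_two, hu2])
    subst hi
    have h2 : (d * d) ^ (2 : ℤ) = 1 := by rw [zpow_two, hd4]
    rcases Int.even_or_odd i with ⟨k, rfl⟩ | ⟨k, rfl⟩
    · left; show (d * d) ^ (k + k) = 1
      rw [← two_mul, zpow_mul, h2, one_zpow]
    · right; show (d * d) ^ (2 * k + 1) = d * d
      rw [zpow_add, zpow_mul, h2, one_zpow, one_mul, zpow_one]
  have htt : t * t = d * d := (hz _ (mul_mem htc htc) ht4).resolve_left ht
  have hc : Commute d⁻¹ t := by
    obtain ⟨i, rfl⟩ := hdc
    obtain ⟨j, rfl⟩ := htc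
    exact (Commute.zpow_zpow_self c i j).inv_left
  have h1 : d⁻¹ * t * (d⁻¹ * t) = 1 := by rw [hc.symm.mul_mul_mul_comm, htt]; group
  rcases hz _ (mul_mem (inv_mem hdc) htc) h1 with e | e
  · exact Or.inl (inv_mul_eq_one.mp e).symm
  · refine Or.inr ?_
    rw [inv_mul_eq_iff_eq_mul] at e
    rw [e]
    calc d * (d * d) = d⁻¹ * (d * d * (d * d)) := by group
      _ = d⁻¹ := by rw [hd4, mul_one]

/-- The groups with a nontrivial automorphism of odd order and no noncyclic abelian subgroup of order eight. -/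
theorem moved [Finite P] (hP : IsPGroup 2 P) (h8 : ¬ Has8 (⊤ : Subgroup P)) {α : MulAut P} (hα : Odd (orderOf α))
    (hα1 : α ≠ 1) :
    (Nat.card P = 4 ∧ (∀ g : P, g * g = 1)) ∨
      ∃ z x y : P, Sq z ∧ ¬ Commute x y ∧ x * x = z ∧ y * y = z ∧ Nat.card P = 8 ∧ ∀ g, g * g = 1 → g = 1 ∨ g = z := by
  classical
  haveI : Fact (Nat.Prime 2) := ⟨Nat.prime_two⟩
  by_cases hex : ∃ B : Subgroup P, B.Characteristic ∧ IsMulCommutative ↥B ∧ ¬ IsCyclic ↥B
  · obtain ⟨V, hVc, hV, hVn⟩ := hex
    rcases four_or_has8 hP hV hVn with ⟨h4, he⟩ | h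
    · have hC : Subgroup.centralizer (V : Set P) = V := by
        refine le_antisymm (fun g hg => ?_) (fun g hg => Subgroup.mem_centralizer_iff.mpr fun v hv => congrArg Subtype.val
          (hV.is_comm.comm (⟨v, hv⟩ : V) ⟨g, hg⟩))
        by_contra hgV
        obtain ⟨k, hk1, hk2⟩ := exists_step hP V hgV
        exact h8 (has8_of_four hV h4 he hk1 (fun v hv => ((show Commute g v from (Subgroup.mem_centralizer_iff.mp hg v hv).symm)).pow_left k)
          hk2 le_top (Subgroup.mem_top _))
      rcases four_char hP hVc hV h4 he hC with htop | ⟨-, htriv⟩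
      · exact Or.inl ⟨by rw [← Subgroup.card_top (G := P), ← htop, h4], fun g => he g (htop.symm ▸ Subgroup.mem_top g)⟩
      · exact absurd (htriv α hα) hα1
    · exact absurd (h.mono le_top) h8
  push Not at hex
  rcases shape hP (fun A h1 h2 => hex A h1 h2) with ⟨hc⟩ | ⟨K, -, -, hK⟩ | ⟨c, d, hdc, hd, hd4, hc, hout⟩ |
      ⟨z, hs, a, b, hab, -, -⟩ | ⟨z, d, hs, a, b, hab, hd, hdc, -⟩
  · refine absurd (MulEquiv.ext fun g => ?_) hα1
    obtain ⟨c, hc'⟩ := hc.exists_generator
    obtain ⟨i, rfl⟩ := hc' g
    simp [fix_cyclic hP hα _ c le_rfl (hc' _)]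
  · exact absurd (hK.mono le_top) h8
  · refine absurd (MulEquiv.ext fun g => ?_) hα1
    have hCd : ∀ u ∈ Subgroup.zpowers c, Commute u d := fun u ⟨i, hi⟩ => by
      obtain ⟨j, hj⟩ := hdc
      subst hi; rw [← hj]
      exact Commute.zpow_zpow_self _ i j
    have hprod : ∀ x y, x ∉ Subgroup.zpowers c → y ∉ Subgroup.zpowers c → x⁻¹ * y ∈ Subgroup.zpowers c := by
      intro x y hx hy
      by_contra hcon
      have h1 := hout _ hcon
      have h2 : x⁻¹ * (y * d * y⁻¹) * x = d⁻¹ := by rw [← h1]; group
      rw [hout y hy] at h2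
      have h3 : x⁻¹ * d⁻¹ * x = d := by
        have := hout x hx
        calc x⁻¹ * d⁻¹ * x = x⁻¹ * (x * d * x⁻¹) * x := by rw [this]
          _ = d := by group
      rw [h3] at h2
      exact hd (by rw [← eq_inv_iff_mul_eq_one]; exact h2)
    have hsq : ∀ x, x ∉ Subgroup.zpowers c → orderOf x ≤ 4 := fun x hx => by
      have h1 : x * x ∈ Subgroup.zpowers c := by
        have := hprod x⁻¹ x (fun h => hx (inv_mem_iff.mp h)) hx
        rwa [inv_inv] at this
      obtain ⟨i, hi⟩ := h1
      have hi' : c ^ i = x * x := hi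
      obtain ⟨m, hm⟩ := IsPGroup.iff_orderOf.mp hP (x * x)
      by_cases hm2 : m ≤ 1
      · refine Nat.le_of_dvd (by norm_num) (orderOf_dvd_of_pow_eq_one ?_)
        have : (x * x) ^ 2 = 1 := orderOf_dvd_iff_pow_eq_one.mp (hm ▸ (Nat.pow_dvd_pow 2 hm2).trans (by norm_num))
        rwa [← pow_two, ← pow_mul] at this
      · exfalso
        obtain ⟨j, rfl⟩ : ∃ j, m = j + 2 := ⟨m - 2, by omega⟩
        -- a power of `x * x` has order four and lies in the cyclic group
        set t := (x * x) ^ 2 ^ j with ht
        have ht4 : t * t * (t * t) = 1 := by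
          rw [ht, ← pow_add, ← pow_add, show 2 ^ j + 2 ^ j + (2 ^ j + 2 ^ j) = 2 ^ (j + 2) by rw [pow_add]; ring, ← hm,
            pow_orderOf_eq_one]
        have ht2 : t * t ≠ 1 := fun e => by
          rw [ht, ← pow_add] at e
          have := Nat.le_of_dvd (by positivity) (orderOf_dvd_of_pow_eq_one e)
          rw [hm, pow_add] at this
          have : 1 ≤ 2 ^ j := Nat.one_le_two_pow
          omega
        have hxt : Commute x t := by rw [ht]; exact ((Commute.refl x).mul_right (Commute.refl x)).pow_right _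
        have htc : t ∈ Subgroup.zpowers c := by rw [ht, ← hi']; exact pow_mem (zpow_mem (Subgroup.mem_zpowers c) i) _
        haveI : IsCyclic (Subgroup.zpowers c) := inferInstance
        have htd : t = d ∨ t = d⁻¹ := four_unique hdc hd hd4 htc ht4 ht2
        have h1 := hout x hx
        rcases htd with e | e
        · rw [← e, hxt.eq, mul_inv_cancel_right] at h1
          exact ht2 (by rw [← eq_inv_iff_mul_eq_one]; exact h1)
        · rw [e] at hxt
          rw [(Commute.inv_right_iff.mp hxt).eq, mul_inv_cancel_right] at h1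
          exact hd (by rw [← eq_inv_iff_mul_eq_one]; exact h1)
    have hcα : α c ∈ Subgroup.zpowers c := by
      by_contra h
      have := hsq _ h
      rw [MulEquiv.orderOf_eq] at this
      omega
    have hfix : α c = c := fix_cyclic hP hα _ c le_rfl hcα
    have hfixC : ∀ u ∈ Subgroup.zpowers c, α u = u := fun u ⟨i, hi⟩ => by subst hi; simp [hfix]
    by_cases hg : g ∈ Subgroup.zpowers c
    · simpa using hfixC g hg
    · have h1 : α g ∉ Subgroup.zpowers c := fun h => hg (α.injective (hfixC _ h) ▸ h)
      simpa using fix_step hP hα (hfixC _ (hprod g (α g) hg h1))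
  · right
    have hle : Nat.card P ≤ 8 := Nat.le_of_not_lt fun h => h8 (hs.large hab h).1
    obtain ⟨x, y, hxy, hx⟩ : ∃ x y : P, ¬ Commute x y ∧ x * x = z := by
      rcases hs.sq a with ha | ha
      · rcases hs.sq b with hb | hb
        · refine ⟨a * b, b, fun h => hab ?_, (hs.sq (a * b)).resolve_left fun e => hab ?_⟩
          · have := h.mul_left (Commute.refl b).inv_left
            rwa [mul_inv_cancel_right] at this
          · have hai : a⁻¹ = a := inv_eq_of_mul_eq_one_right ha
            have hbi : b⁻¹ = b := inv_eq_of_mul_eq_one_right hb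
            have h1 : (a * b)⁻¹ = a * b := inv_eq_of_mul_eq_one_right e
            rw [mul_inv_rev, hai, hbi] at h1
            exact h1.symm
        · exact ⟨b, a, fun h => hab h.symm, hb⟩
      · exact ⟨a, b, hab, ha⟩
    obtain ⟨W, hW8, hxW, hyW, hW⟩ := hs.sub8 hxy hx
    have hWtop : W = ⊤ := eq_top_of_card (by omega)
    have hall : ∀ g, g = 1 ∨ g = z ∨ g = x ∨ g = x * z ∨ g = y ∨ g = y * z ∨ g = y * x ∨ g = y * (x * z) :=
      fun g => (hW g).mp (hWtop.symm ▸ Subgroup.mem_top g)
    have hswap := hs.swap hxy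
    rcases hs.sq y with hy | hy
    · exfalso
      apply hα1
      have hz : α z = z := by
        rcases hs.com (α x) (α y) with e | e
        · exact absurd (α.injective (by rw [map_mul, map_mul, e]) : y * x = x * y) fun h => hxy h.symm
        · have : α (y * x) = α (x * y) * α z := by rw [hswap, map_mul]
          rw [map_mul, map_mul, e] at this
          exact (mul_left_cancel this).symm
      have hinvol : ∀ g, g = y ∨ g = y * z ∨ g = y * x ∨ g = y * (x * z) → g * g = 1 := by
        have h1 : y * x * (y * x) = 1 := by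
          calc y * x * (y * x) = y * x * (x * y * z) := by rw [hswap]
            _ = y * (x * x) * y * z := by group
            _ = y * z * y * z := by rw [hx]
            _ = (y * y) * (z * z) := by rw [mul_assoc (y * z), (hs.central y).mul_mul_mul_comm]
            _ = 1 := by rw [hy, hs.zz, mul_one]
        rintro g (e | e | e | e) <;> rw [e]
        · exact hy
        · rw [(hs.central y).mul_mul_mul_comm, hy, hs.zz, mul_one]
        · exact h1
        · rw [← mul_assoc y x z, (hs.central (y * x)).mul_mul_mul_comm, h1, hs.zz, mul_one]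
      have hαx : α x = x := by
        rcases hall (α x) with e | e | e | e | e | e | e | e
        · exact absurd (show x * x = 1 by rw [α.injective (e.trans (map_one α).symm), mul_one]) (hx.symm ▸ hs.ne)
        · exact absurd (show x * x = 1 by rw [α.injective (e.trans hz.symm), hs.zz]) (hx.symm ▸ hs.ne)
        · exact e
        · refine fix_step hP hα ?_
          rw [e, inv_mul_cancel_left, hz]
        all_goals
          have h1 := hinvol (α x) (by simp [e])
          rw [← map_mul, hx, hz] at h1
          exact absurd h1 hs.ne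
      have hfix : ∀ g, g = 1 ∨ g = z ∨ g = x ∨ g = x * z → α g = g := by
        rintro g (e | e | e | e) <;> rw [e]
        exacts [map_one α, hz, hαx, by rw [map_mul, hαx, hz]]
      have hαy : α y = y := by
        rcases hall (α y) with e | e | e | e | e | e | e | e
        iterate 4
          exact α.injective (hfix (α y) (by simp [e]))
        all_goals
          refine fix_step hP hα (hfix _ ?_)
          simp [e]
      refine MulEquiv.ext fun g => ?_
      rcases hall g with e | e | e | e | e | e | e | e <;> subst e <;> simp [hz, hαx, hαy]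
    · exact ⟨z, x, y, hs, hxy, hx, hy, by rw [← Subgroup.card_top (G := P), ← hWtop, hW8],
        fun g hg => q8_inv hs hxy hx hy (hall g) hg⟩
  · exact absurd (hs.has8_quad hab hd hdc) h8

end CfsgLib.EightAbelian
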