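import Mathlib
import Cfsg.Prelude.Def_CaseTheorems
import Cfsg.Agent.Lib.EightAbelian.Basic
import Cfsg.Agent.Lib.ExtraspecialTwo
import Cfsg.Agent.S3762

/-!
Two-groups with few noncyclic abelian subgroups of order eight.
-/

set_option autoImplicit false

namespace CfsgLib.EightAbelian

universe u

variable {P : Type u} [Group P]

/-- The data of a group of maximal class: a cyclic subgroup and an element of order four in it inverted outside. -/
theorem maxclass_data [Finite P] (hP : IsPGroup 2 P) (h16 : 16 ≤ Nat.card P)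
    (h : (∃ m : ℕ, Nonempty (P ≃* DihedralGroup m)) ∨ (∃ m : ℕ, Nonempty (P ≃* QuaternionGroup m)) ∨
      Cfsg.IsQuasiDihedral P) :
    ∃ c d : P, d ∈ Subgroup.zpowers c ∧ d * d ≠ 1 ∧ d * d * (d * d) = 1 ∧ 8 ≤ orderOf c ∧
      (∃ x, x ∉ Subgroup.zpowers c) ∧ ∀ x, x ∉ Subgroup.zpowers c → x * d * x⁻¹ = d⁻¹ := by
  have key : ∀ (c : P) (n : ℕ), orderOf c = 4 * n → 2 ≤ n → Nat.card P = 2 * orderOf c →
      (∀ x, x ∉ Subgroup.zpowers c → x * c ^ n * x⁻¹ = (c ^ n)⁻¹) →
      ∃ c d : P, d ∈ Subgroup.zpowers c ∧ d * d ≠ 1 ∧ d * d * (d * d) = 1 ∧ 8 ≤ orderOf c ∧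
        (∃ x, x ∉ Subgroup.zpowers c) ∧ ∀ x, x ∉ Subgroup.zpowers c → x * d * x⁻¹ = d⁻¹ := by
    intro c n hc hn hord hinv
    have hex : ∃ x, x ∉ Subgroup.zpowers c := by
      by_contra h
      push Not at h
      have htop : Subgroup.zpowers c = ⊤ := eq_top_iff.mpr fun g _ => h g
      have := congrArg (fun H : Subgroup P => Nat.card H) htop
      simp only [Nat.card_zpowers, Subgroup.card_top] at this
      omega
    refine ⟨c, c ^ n, ⟨n, by simp⟩, fun e => ?_, ?_, by omega, hex, hinv⟩
    · rw [← pow_add] at e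
      have := Nat.le_of_dvd (by omega) (orderOf_dvd_of_pow_eq_one e)
      omega
    · rw [← pow_add, ← pow_add, show n + n + (n + n) = 4 * n by ring, ← hc, pow_orderOf_eq_one]
  rcases h with ⟨m, ⟨e⟩⟩ | ⟨m, ⟨e⟩⟩ | ⟨n, hn, hcard, x, y, hx, hy, hyx⟩
  · have hm : Nat.card P = 2 * m := by rw [Nat.card_congr e.toEquiv, DihedralGroup.nat_card]
    haveI : NeZero m := ⟨by omega⟩
    have h4 : 4 ∣ m := by
      haveI : Fact (Nat.Prime 2) := ⟨Nat.prime_two⟩
      obtain ⟨k, hk⟩ := IsPGroup.iff_card.mp hP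
      obtain ⟨j, rfl⟩ : ∃ j, k = j + 3 := ⟨k - 3, by
        have : 2 ^ 4 ≤ 2 ^ k := by omega
        have := (Nat.pow_le_pow_iff_right (by norm_num : 1 < 2)).mp this
        omega⟩
      refine ⟨2 ^ j, ?_⟩
      rw [pow_add] at hk
      omega
    obtain ⟨n, rfl⟩ := h4
    refine key (e.symm (DihedralGroup.r 1)) n (by rw [e.symm.orderOf_eq, DihedralGroup.orderOf_r_one]) (by omega)
      (by rw [e.symm.orderOf_eq, DihedralGroup.orderOf_r_one]; omega)
      fun x hx => ?_
    apply e.injective
    rw [map_mul, map_mul, map_inv, map_inv, map_pow, MulEquiv.apply_symm_apply, DihedralGroup.r_one_pow]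
    cases hex : e x with
    | r i =>
      refine absurd ⟨(i.val : ℤ), ?_⟩ hx
      apply e.injective
      simp [hex]
    | sr i => simp
  · haveI : NeZero m := ⟨by
      rintro rfl
      haveI : Finite (QuaternionGroup 0) := Finite.of_equiv P e.toEquiv
      haveI : Finite (ZMod (2 * 0)) := Finite.of_injective QuaternionGroup.a fun _ _ h => by cases h; rfl
      haveI : Finite ℤ := ‹Finite (ZMod (2 * 0))›
      exact not_finite ℤ⟩
    have hm : Nat.card P = 4 * m := by
      rw [Nat.card_congr e.toEquiv, Nat.card_eq_fintype_card, QuaternionGroup.card]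
    obtain ⟨n, rfl⟩ : 2 ∣ m := by
      haveI : Fact (Nat.Prime 2) := ⟨Nat.prime_two⟩
      obtain ⟨k, hk⟩ := IsPGroup.iff_card.mp hP
      obtain ⟨j, rfl⟩ : ∃ j, k = j + 3 := ⟨k - 3, by
        have : 2 ^ 4 ≤ 2 ^ k := by omega
        have := (Nat.pow_le_pow_iff_right (by norm_num : 1 < 2)).mp this
        omega⟩
      refine ⟨2 ^ j, ?_⟩
      rw [pow_add] at hk
      omega
    refine key (e.symm (QuaternionGroup.a 1)) n (by rw [e.symm.orderOf_eq, QuaternionGroup.orderOf_a_one]; ring)
      (by omega) (by rw [e.symm.orderOf_eq, QuaternionGroup.orderOf_a_one]; omega) fun x hx => ?_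
    apply e.injective
    rw [map_mul, map_mul, map_inv, map_inv, map_pow, MulEquiv.apply_symm_apply, QuaternionGroup.a_one_pow]
    cases hex : e x with
    | a i =>
      refine absurd ⟨(i.val : ℤ), ?_⟩ hx
      apply e.injective
      show e (e.symm (QuaternionGroup.a 1) ^ (i.val : ℤ)) = e x
      rw [zpow_natCast, map_pow, MulEquiv.apply_symm_apply, QuaternionGroup.a_one_pow, ZMod.natCast_zmod_val, hex]
    | xa i =>
      rw [← QuaternionGroup.a_one_pow]
      rw [mul_inv_eq_iff_eq_mul]
      simp [QuaternionGroup.a_one_pow]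
      show QuaternionGroup.xa (i + (n : ZMod (2 * (2 * n)))) = QuaternionGroup.a (-(n : ZMod (2 * (2 * n)))) * QuaternionGroup.xa i
      simp
  · obtain ⟨j, rfl⟩ : ∃ j, n = j + 2 := ⟨n - 2, by omega⟩
    have h4 : orderOf x = 4 * 2 ^ j := by rw [hx, pow_add]; ring
    have hj : 2 ≤ 2 ^ j := by
      calc 2 = 2 ^ 1 := rfl
        _ ≤ 2 ^ j := Nat.pow_le_pow_right (by norm_num) (by omega)
    refine key x (2 ^ j) h4 hj (by rw [hcard, hx, pow_succ, mul_comm]) fun g hg => ?_
    have hyd : y * x ^ 2 ^ j * y⁻¹ = (x ^ 2 ^ j)⁻¹ := by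
      rw [← conj_pow, hyx, ← pow_mul, eq_inv_iff_mul_eq_one, ← pow_add, ← orderOf_dvd_iff_pow_eq_one, h4]
      obtain ⟨i, rfl⟩ : ∃ i, j = i + 1 := ⟨j - 1, by omega⟩
      refine ⟨2 ^ i, ?_⟩
      have e1 : 2 ^ (i + 1 + 2 - 1) = 2 ^ i * 4 := by
        rw [show i + 1 + 2 - 1 = i + 2 by omega, pow_add]; norm_num
      rw [e1, pow_succ]
      have : 1 ≤ 2 ^ i := Nat.one_le_two_pow
      obtain ⟨a, ha⟩ : ∃ a, 2 ^ i = a := ⟨_, rfl⟩
      rw [ha] at this ⊢
      obtain ⟨b, rfl⟩ : ∃ b, a = b + 1 := ⟨a - 1, by omega⟩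
      rw [show (b + 1) * 4 - 1 = 4 * b + 3 by omega]
      ring
    have hn : ∀ v ∈ Subgroup.zpowers x, y * v * y⁻¹ ∈ Subgroup.zpowers x := by
      rintro _ ⟨i, rfl⟩
      show y * x ^ i * y⁻¹ ∈ _
      rw [← conj_zpow, hyx]
      exact zpow_mem (pow_mem (Subgroup.mem_zpowers x) _) i
    have hyx' : y ∉ Subgroup.zpowers x := by
      rintro ⟨i, rfl⟩
      have h1 : x ^ i * x * (x ^ i)⁻¹ = x := by rw [(Commute.zpow_self x i).eq, mul_inv_cancel_right]
      have h2 : x ^ 1 = x ^ (2 ^ (j + 2 - 1) - 1) := by rw [pow_one]; exact h1.symm.trans hyx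
      have e1 : 2 ^ (j + 2 - 1) = 2 * 2 ^ j := by rw [show j + 2 - 1 = j + 1 by omega, pow_succ]; ring
      have h3 := pow_injOn_Iio_orderOf (x := x) (Set.mem_Iio.mpr (by omega)) (Set.mem_Iio.mpr (by omega)) h2
      omega
    obtain ⟨W, hW, hWc⟩ := double (Subgroup.zpowers x) hyx' hn
      (by rw [← pow_two, ← hy, pow_orderOf_eq_one]; exact one_mem _)
    have hWtop : W = ⊤ := eq_top_of_card (by rw [hWc, Nat.card_zpowers, hx, hcard, pow_succ]; omega)
    rcases (hW g).mp (hWtop.symm ▸ Subgroup.mem_top g) with h | ⟨i, hi⟩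
    · exact absurd h hg
    · obtain rfl : g = y * x ^ i := by rw [show x ^ i = y⁻¹ * g from hi, mul_inv_cancel_left]
      have h1 : x ^ i * x ^ 2 ^ j * (x ^ i)⁻¹ = x ^ 2 ^ j := by
        rw [((Commute.zpow_self x i).pow_right (2 ^ j)).eq, mul_inv_cancel_right]
      rw [mul_inv_rev]
      calc y * x ^ i * x ^ 2 ^ j * ((x ^ i)⁻¹ * y⁻¹) = y * (x ^ i * x ^ 2 ^ j * (x ^ i)⁻¹) * y⁻¹ := by group
        _ = _ := by rw [h1, hyd]

/-- The possible shapes. -/
inductive Shape (P : Type u) [Group P] : Prop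
  | cyclic (h : IsCyclic P)
  | proper (K : Subgroup P) (hK : K ≠ ⊤) (hchar : K.Characteristic) (h8 : Has8 K)
  | maxclass (c d : P) (hdc : d ∈ Subgroup.zpowers c) (hd : d * d ≠ 1) (hd4 : d * d * (d * d) = 1)
      (hc : 8 ≤ orderOf c) (hout : ∀ x, x ∉ Subgroup.zpowers c → x * d * x⁻¹ = d⁻¹)
  | extraspecial (z : P) (hs : Sq z) (a b : P) (hab : ¬ Commute a b) (hZ : ∀ w : P, (∀ g, Commute w g) → w = 1 ∨ w = z)
      (hE : Cfsg.IsExtraspecial 2 P)
  | extendedByFour (z d : P) (hs : Sq z) (a b : P) (hab : ¬ Commute a b) (hd : d * d = z) (hdc : ∀ g, Commute d g)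
      (hZ : ∀ w : P, (∀ g, Commute w g) → w = 1 ∨ w = z ∨ w = d ∨ w = d * z)

/-- A group whose characteristic abelian subgroups are cyclic has one of the shapes. -/
theorem shape [Finite P] (hP : IsPGroup 2 P)
    (hchar : ∀ A : Subgroup P, A.Characteristic → IsMulCommutative ↥A → IsCyclic ↥A) : Shape P := by
  classical
  haveI : Fact (Nat.Prime 2) := ⟨Nat.prime_two⟩
  obtain ⟨E, R, hER, htop, hE, hR⟩ := Cfsg.Agent.S3762.result (G := P) hP hchar
  have hprod : ∀ g : P, ∃ e ∈ E, ∃ r ∈ R, g = e * r := by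
    intro g
    have hn : E ≤ Subgroup.normalizer (R : Set P) := fun e he => Subgroup.mem_normalizer_iff.mpr fun r => by
      constructor
      · intro hr
        rw [hER e he r hr, mul_inv_cancel_right]; exact hr
      · intro hr
        have h1 := hER _ (E.inv_mem he) _ hr
        have h2 : r = e * r * e⁻¹ := by
          calc r = e⁻¹ * (e * r * e⁻¹) * e := by group
            _ = e * r * e⁻¹ := by rw [h1, inv_mul_cancel_right]
        rw [h2]; exact hr
    have hg : g ∈ ((E ⊔ R : Subgroup P) : Set P) := by rw [htop]; exact Subgroup.mem_top g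
    rw [Subgroup.coe_mul_of_left_le_normalizer_right E R hn] at hg
    obtain ⟨e, he, r, hr, rfl⟩ := Set.mem_mul.mp hg
    exact ⟨e, he, r, hr, rfl⟩
  have hcomm : ∀ e ∈ E, ∀ r ∈ R, Commute e r := fun e he r hr => hER e he r hr
  -- a cyclic characteristic centre: one involution
  have hZcyc : IsCyclic ↥(Subgroup.center P) := hchar _ inferInstance inferInstance
  have huniq : ∀ w v : P, (∀ g, Commute w g) → (∀ g, Commute v g) → w * w = 1 → v * v = 1 → v ≠ 1 → w = 1 ∨ w = v := by
    intro w v hw hv hw2 hv2 hv1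
    have hvo : orderOf v = 2 := orderOf_eq_prime (by rw [pow_two, hv2]) hv1
    have hmem : ∀ u : P, (∀ g, Commute u g) → u ∈ Subgroup.center P := fun u hu =>
      Subgroup.mem_center_iff.mpr fun g => (hu g).eq.symm
    obtain ⟨i, hi⟩ := CfsgLib.SymplecticTypeP.mem_zpowers_of_pow (p := 2) hZcyc (hmem v hv) hvo (hmem w hw)
      (by rw [pow_two, hw2])
    subst hi
    have h2 : v ^ (2 : ℤ) = 1 := by rw [zpow_two, hv2]
    rcases Int.even_or_odd i with ⟨k, rfl⟩ | ⟨k, rfl⟩
    · left; show v ^ (k + k) = 1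
      rw [← two_mul, zpow_mul, h2, one_zpow]
    · right; show v ^ (2 * k + 1) = v
      rw [zpow_add, zpow_mul, h2, one_zpow, one_mul, zpow_one]
  rcases hE with rfl | hE
  · rw [bot_sup_eq] at htop
    subst htop
    rcases hR with hcy | ⟨-, h16, hty⟩
    · exact .cyclic (isCyclic_of_surjective (Subgroup.topEquiv (G := P)) Subgroup.topEquiv.surjective)
    · obtain ⟨c, d, h1, h2, h3, h4, -, h5⟩ := maxclass_data (P := (⊤ : Subgroup P)) (hP.to_subgroup ⊤) h16 hty
      refine .maxclass (c : P) (d : P) ?_ (fun e => h2 (Subtype.ext e)) (congrArg Subtype.val h3)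
        (by rw [Subgroup.orderOf_coe]; exact h4) fun x hx => ?_
      · obtain ⟨i, hi⟩ := h1
        exact ⟨i, by have := congrArg Subtype.val hi; simpa using this⟩
      · have := h5 ⟨x, Subgroup.mem_top x⟩ fun ⟨i, hi⟩ => hx ⟨i, by have := congrArg Subtype.val hi; simpa using this⟩
        exact congrArg Subtype.val this
  · obtain ⟨z, hz⟩ := CfsgLib.ExtraTwo.ofExtraspecial hE
    have hzcE : ∀ e ∈ E, Commute (z : P) e := fun e he =>
      (congrArg Subtype.val (hz.z_comm (⟨e, he⟩ : E)).eq).symm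
    have hzc : ∀ g : P, Commute (z : P) g := fun g => by
      obtain ⟨e, he, r, hr, rfl⟩ := hprod g
      exact (hzcE e he).mul_right (hcomm _ z.2 r hr)
    have hzz : (z : P) * z = 1 := congrArg Subtype.val hz.zz
    have hz1 : (z : P) ≠ 1 := fun e => hz.ne (Subtype.ext e)
    have hEsq : ∀ e ∈ E, e * e = 1 ∨ e * e = z := fun e he => by
      rcases hz.sq ⟨e, he⟩ with h | h
      · exact Or.inl (congrArg Subtype.val h)
      · exact Or.inr (congrArg Subtype.val h)
    have hEcom : ∀ e ∈ E, ∀ f ∈ E, f * e = e * f ∨ f * e = e * f * z := fun e he f hf => by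
      rcases hz.comm_cases ⟨f, hf⟩ ⟨e, he⟩ with h | h
      · exact Or.inl (congrArg Subtype.val (commutatorElement_eq_one_iff_mul_comm.mp h))
      · refine Or.inr ?_
        have h' : f * e * f⁻¹ * e⁻¹ = (z : P) := congrArg Subtype.val h
        rw [← (hzc (e * f)).eq, ← h']
        group
    have hEcen : ∀ e ∈ E, (∀ f ∈ E, Commute e f) → e = 1 ∨ e = z := fun e he hc => by
      rcases (hz.center_iff ⟨e, he⟩).mp (Subgroup.mem_center_iff.mpr fun f => Subtype.ext (hc f f.2).eq.symm) with h | h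
      · exact Or.inl (congrArg Subtype.val h)
      · exact Or.inr (congrArg Subtype.val h)
    obtain ⟨a, ha, b, hb, hab⟩ : ∃ a ∈ E, ∃ b ∈ E, ¬ Commute a b := by
      by_contra hcon
      push Not at hcon
      have htop' : Subgroup.center E = ⊤ := eq_top_iff.mpr fun g _ => Subgroup.mem_center_iff.mpr fun f =>
        Subtype.ext (hcon f f.2 g g.2).eq
      have hΦ : frattini E = Subgroup.center E := hE.1.2.1
      have hne : frattini E ≠ ⊤ := by
        intro e
        rcases eq_top_or_exists_le_coatom (⊥ : Subgroup E) with h | ⟨M, hM, -⟩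
        · exact hz.ne (Subgroup.mem_bot.mp (h.symm ▸ Subgroup.mem_top z))
        · exact hM.1 (top_le_iff.mp (e ▸ frattini_le_coatom hM))
      exact hne (hΦ.trans htop')
    obtain ⟨e₄, he₄, hsq⟩ : ∃ e ∈ E, e * e = z := by
      by_contra hcon
      push Not at hcon
      have h1 : ∀ e ∈ E, e * e = 1 := fun e he => (hEsq e he).resolve_right (hcon e he)
      apply hab
      have hai : a⁻¹ = a := inv_eq_of_mul_eq_one_right (h1 a ha)
      have hbi : b⁻¹ = b := inv_eq_of_mul_eq_one_right (h1 b hb)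
      have h2 := inv_eq_of_mul_eq_one_right (h1 _ (E.mul_mem ha hb))
      rw [mul_inv_rev, hai, hbi] at h2
      exact h2.symm
    -- an element of order four of `R` gives a subgroup of order eight
    have hpair : ∀ d ∈ R, d * d = z → ∀ K : Subgroup P, e₄ ∈ K → d ∈ K → Has8 K := by
      intro d hdR hd K heK hdK
      have hcd := hcomm e₄ he₄ d hdR
      refine has8_of_pair (d := e₄) (t := e₄ * d) (hsq.symm ▸ hz1) (by rw [hsq, hzz]) ?_ (fun hmem => ?_)
        ((Commute.refl e₄).mul_right hcd) heK (K.mul_mem heK hdK)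
      · rw [hcd.symm.mul_mul_mul_comm, hsq, hd, hzz]
      · have hdE : d ∈ E := by
          have := E.mul_mem (E.inv_mem he₄) ((Subgroup.zpowers_le.mpr he₄) hmem)
          rwa [inv_mul_cancel_left] at this
        rcases hEcen d hdE fun f hf => (hcomm f hf d hdR).symm with e | e <;> rw [e] at hd
        · exact hz1 (by rw [← hd, mul_one])
        · exact hz1 (by rw [← hd, hzz])
    rcases hR with hcy | ⟨-, h16, hty⟩
    · obtain ⟨c, hc⟩ := (Subgroup.isCyclic_iff_exists_zpowers_eq_top _).mp hcy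
      have hcR : c ∈ R := hc ▸ Subgroup.mem_zpowers c
      have hRc : ∀ r ∈ R, ∀ g, Commute r g := fun r hr g => by
        obtain ⟨e, he, r', hr', rfl⟩ := hprod g
        obtain ⟨i, rfl⟩ := (hc ▸ hr : r ∈ Subgroup.zpowers c)
        obtain ⟨j, rfl⟩ := (hc ▸ hr' : r' ∈ Subgroup.zpowers c)
        exact ((hcomm e he _ (R.zpow_mem hcR i)).symm).mul_right (Commute.zpow_zpow_self c i j)
      have hEtop : R ≤ E → E = ⊤ := fun h => by rw [← htop, sup_eq_left.mpr h]
      by_cases hsmall : ∀ r ∈ R, r * r = 1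
      · have hle : R ≤ E := fun r hr => by
          rcases huniq r z (hRc r hr) hzc (hsmall r hr) hzz hz1 with e | e <;> rw [e]
          exacts [E.one_mem, z.2]
        have hE' := hEtop hle
        refine .extraspecial (z : P) ⟨hz1, hzz, hzc, fun g => hEsq g (hE' ▸ Subgroup.mem_top g),
          fun g h => hEcom g (hE' ▸ Subgroup.mem_top g) h (hE' ▸ Subgroup.mem_top h)⟩ a b hab
          (fun w hw => hEcen w (hE' ▸ Subgroup.mem_top w) fun f _ => hw f) ?_
        have hm : ∀ g : P, g = 1 ∨ g = (z : P) → g ∈ Subgroup.zpowers (z : P) := fun g hg => by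
          rcases hg with e | e <;> rw [e]
          exacts [one_mem _, Subgroup.mem_zpowers _]
        refine CfsgLib.SymplecticTypeP.isExtraspecial_of hP (orderOf_eq_prime (by rw [pow_two, hzz]) hz1)
          (fun g => hm _ (by rw [pow_two]; exact hEsq g (hE' ▸ Subgroup.mem_top g))) (fun g h => hm _ ?_)
          (fun g hg => hm _ (hEcen g (hE' ▸ Subgroup.mem_top g) fun f _ => hg f)) ⟨a, b, hab⟩
        rcases hEcom g (hE' ▸ Subgroup.mem_top g) h (hE' ▸ Subgroup.mem_top h) with e | e
        · exact Or.inl (commutatorElement_eq_one_iff_mul_comm.mpr e.symm)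
        · refine Or.inr (inv_injective ?_)
          rw [inv_eq_of_mul_eq_one_right hzz, commutatorElement_inv, commutatorElement_def, e, (hzc (g * h)).symm.eq]
          group
      · push Not at hsmall
        obtain ⟨r₀, hr₀, hr₀2⟩ := hsmall
        obtain ⟨d, hdR, hd, hd1⟩ : ∃ d ∈ R, d * d * (d * d) = 1 ∧ d * d ≠ 1 := by
          obtain ⟨n, hn⟩ := IsPGroup.iff_orderOf.mp hP r₀
          obtain ⟨j, rfl⟩ : ∃ j, n = j + 2 := ⟨n - 2, by
            by_contra h
            have h2 : n ≤ 1 := by omega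
            have h3 : orderOf r₀ ∣ 2 := by rw [hn]; exact (Nat.pow_dvd_pow 2 h2).trans (by norm_num)
            exact hr₀2 (by rw [← pow_two]; exact orderOf_dvd_iff_pow_eq_one.mp h3)⟩
          refine ⟨r₀ ^ 2 ^ j, R.pow_mem hr₀ _, ?_, fun e => ?_⟩
          · rw [← pow_add, ← pow_add, show 2 ^ j + 2 ^ j + (2 ^ j + 2 ^ j) = 2 ^ (j + 2) by rw [pow_add]; ring, ← hn,
              pow_orderOf_eq_one]
          · rw [← pow_add] at e
            have h1 := Nat.le_of_dvd (by positivity) (orderOf_dvd_of_pow_eq_one e)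
            rw [hn, pow_add] at h1
            have : 1 ≤ 2 ^ j := Nat.one_le_two_pow
            omega
        have hddc : ∀ g, Commute (d * d) g := fun g => (hRc d hdR g).mul_left (hRc d hdR g)
        have hdz : d * d = z := (huniq (d * d) z hddc hzc hd hzz hz1).resolve_left hd1
        let K : Subgroup P :=
          { carrier := {g | ∃ e ∈ E, ∃ r ∈ R, g = e * r ∧ r * r * (r * r) = 1}
            one_mem' := ⟨1, E.one_mem, 1, R.one_mem, by simp⟩
            mul_mem' := by
              rintro _ _ ⟨e, he, r, hr, rfl, h4⟩ ⟨e', he', r', hr', rfl, h4'⟩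
              have hrr := hRc r hr r'
              refine ⟨e * e', E.mul_mem he he', r * r', R.mul_mem hr hr', (hcomm e' he' r hr).symm.mul_mul_mul_comm _ _, ?_⟩
              rw [hrr.symm.mul_mul_mul_comm, Commute.mul_mul_mul_comm (show Commute (r' * r') (r * r) from
                (hrr.symm.mul_right hrr.symm).mul_left (hrr.symm.mul_right hrr.symm)), h4, h4', mul_one]
            inv_mem' := by
              rintro _ ⟨e, he, r, hr, rfl, h4⟩
              refine ⟨e⁻¹, E.inv_mem he, r⁻¹, R.inv_mem hr, ?_, ?_⟩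
              · rw [mul_inv_rev]; exact ((hcomm e he r hr).inv_inv.symm).eq
              · rw [← mul_inv_rev, ← mul_inv_rev, h4, inv_one] }
        have hK4 : ∀ g, g ∈ K ↔ g * g * (g * g) = 1 := by
          intro g
          have key : ∀ e ∈ E, ∀ r ∈ R, e * r * (e * r) * (e * r * (e * r)) = r * r * (r * r) := by
            intro e he r hr
            have hc' := hcomm e he r hr
            rw [hc'.symm.mul_mul_mul_comm]
            rcases hEsq e he with h | h <;> rw [h]
            · simp only [one_mul]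
            · have hz' : Commute (r * r) (z : P) := (hzc _).symm
              rw [hz'.mul_mul_mul_comm, hzz, one_mul]
          constructor
          · rintro ⟨e, he, r, hr, rfl, h4⟩
            rw [key e he r hr, h4]
          · intro h4
            obtain ⟨e, he, r, hr, rfl⟩ := hprod g
            exact ⟨e, he, r, hr, rfl, by rwa [key e he r hr] at h4⟩
        have heK : e₄ ∈ K := (hK4 _).mpr (by rw [hsq, hzz])
        have hdK : d ∈ K := (hK4 _).mpr hd
        by_cases hKtop : K = ⊤
        · have hRd : ∀ r ∈ R, r * r = 1 ∨ r * r = z := fun r hr =>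
            huniq (r * r) z (fun g => (hRc r hr g).mul_left (hRc r hr g)) hzc ((hK4 r).mp (hKtop ▸ Subgroup.mem_top r)) hzz hz1
          refine .extendedByFour (z : P) d ⟨hz1, hzz, hzc, fun g => ?_, fun g h => ?_⟩ a b hab hdz (hRc d hdR) fun w hw => ?_
          · obtain ⟨e, he, r, hr, rfl⟩ := hprod g
            rw [(hcomm e he r hr).symm.mul_mul_mul_comm]
            rcases hEsq e he with h | h <;> rcases hRd r hr with h' | h' <;> rw [h, h'] <;> simp [hzz]
          · obtain ⟨e, he, r, hr, rfl⟩ := hprod g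
            obtain ⟨f, hf, s, hs, rfl⟩ := hprod h
            rw [((hRc s hs) e).mul_mul_mul_comm, (hRc r hr f).mul_mul_mul_comm, (hRc s hs r).eq]
            rcases hEcom e he f hf with e' | e' <;> rw [e']
            · exact Or.inl rfl
            · refine Or.inr ?_
              rw [mul_assoc (e * f) (z : P), (hzc (r * s)).eq, ← mul_assoc]
          · obtain ⟨e, he, r, hr, rfl⟩ := hprod w
            have hec : ∀ f ∈ E, Commute e f := fun f hf => by
              have := (hw f).mul_left ((hRc r hr f).inv_left)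
              rwa [mul_inv_cancel_right] at this
            have hr' : r = 1 ∨ r = z ∨ r = d ∨ r = d * z := by
              rcases hRd r hr with h | h
              · rcases huniq r z (hRc r hr) hzc h hzz hz1 with e' | e'
                · exact Or.inl e'
                · exact Or.inr (Or.inl e')
              · have hdi : (d⁻¹ * r) * (d⁻¹ * r) = 1 := by
                  rw [((hRc d hdR r).inv_left.symm).mul_mul_mul_comm, h, ← mul_inv_rev, hdz, inv_mul_cancel]
                rcases huniq (d⁻¹ * r) z (fun g => (hRc d hdR g).inv_left.mul_left (hRc r hr g)) hzc hdi hzz hz1 with e' | e'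
                · exact Or.inr (Or.inr (Or.inl ((inv_mul_eq_one.mp e').symm)))
                · exact Or.inr (Or.inr (Or.inr (inv_mul_eq_iff_eq_mul.mp e')))
            rcases hEcen e he hec with e' | e' <;> rw [e']
            · rw [one_mul]; exact hr'
            · rcases hr' with h | h | h | h <;> rw [h]
              · exact Or.inr (Or.inl (mul_one _))
              · exact Or.inl hzz
              · exact Or.inr (Or.inr (Or.inr (hzc d).eq))
              · refine Or.inr (Or.inr (Or.inl ?_))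
                rw [(hzc (d * z)).eq, mul_assoc, hzz, mul_one]
        · refine .proper K hKtop (CfsgLib.SymplecticTypeP.char_of_mem_iff fun φ k hk => (hK4 _).mpr ?_)
            (hpair d hdR hdz K heK hdK)
          rw [← map_mul, ← map_mul, (hK4 k).mp hk, map_one]
    · obtain ⟨c₀, d₀, h1, h2, h3, h4, ⟨r₁, hr₁'⟩, h5⟩ := maxclass_data (P := R) (hP.to_subgroup R) h16 hty
      have hd4 : (d₀ : P) * d₀ * ((d₀ : P) * d₀) = 1 := congrArg Subtype.val h3
      have hd1 : (d₀ : P) * d₀ ≠ 1 := fun e => h2 (Subtype.ext e)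
      set C : Subgroup P := Subgroup.zpowers (c₀ : P) with hC
      have hdC : (d₀ : P) ∈ C := by
        obtain ⟨i, hi⟩ := h1
        exact ⟨i, by have := congrArg Subtype.val hi; simpa using this⟩
      have hRin : ∀ r : R, (r : P) ∉ C → (r : P) * d₀ * (r : P)⁻¹ = (d₀ : P)⁻¹ := fun r hr =>
        congrArg Subtype.val (h5 r fun ⟨i, hi⟩ => hr ⟨i, by have := congrArg Subtype.val hi; simpa using this⟩)
      have hCd : ∀ u ∈ C, Commute u (d₀ : P) := fun u ⟨i, hi⟩ => by
        obtain ⟨j, hj⟩ := hdC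
        subst hi; rw [← hj]
        exact Commute.zpow_zpow_self _ i j
      have hCcomm : ∀ u ∈ C, ∀ v ∈ C, Commute u v := fun u ⟨i, hi⟩ v ⟨j, hj⟩ => by
        subst hi; subst hj
        exact Commute.zpow_zpow_self _ i j
      have hRsq : ∀ r : R, (r : P) * r ∈ C := fun r => by
        by_contra hcon
        have hrC : (r : P) ∉ C := fun h => hcon (C.mul_mem h h)
        have h6 := hRin (r * r) hcon
        rw [Subgroup.coe_mul, mul_inv_rev] at h6
        have h7 : (r : P) * ((r : P) * d₀ * (r : P)⁻¹) * (r : P)⁻¹ = (d₀ : P)⁻¹ := by rw [← h6]; group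
        rw [hRin r hrC] at h7
        have h8 : (r : P) * d₀ * (r : P)⁻¹ = d₀ := by
          have := congrArg (·⁻¹) h7
          simpa [mul_assoc] using this
        rw [hRin r hrC] at h8
        exact hd1 (by rw [← eq_inv_iff_mul_eq_one]; exact h8.symm)
      have hdd : ∀ g, Commute ((d₀ : P) * d₀) g := fun g => by
        obtain ⟨e, he, r, hr, rfl⟩ := hprod g
        refine ((hcomm e he _ (R.mul_mem d₀.2 d₀.2)).symm).mul_right ?_
        by_cases hrC : r ∈ C
        · exact ((hCd r hrC).mul_right (hCd r hrC)).symm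
        · have h6 := hRin ⟨r, hr⟩ hrC
          have h7 : r * ((d₀ : P) * d₀) * r⁻¹ = (d₀ : P) * d₀ := by
            rw [show r * ((d₀ : P) * d₀) * r⁻¹ = (r * d₀ * r⁻¹) * (r * d₀ * r⁻¹) by group, h6, ← mul_inv_rev,
              inv_eq_of_mul_eq_one_right hd4]
          exact (mul_inv_eq_iff_eq_mul.mp h7).symm
      have hdz : (d₀ : P) * d₀ = z := (huniq _ z hdd hzc hd4 hzz hz1).resolve_left hd1
      have hzC : (z : P) ∈ C := hdz ▸ C.mul_mem hdC hdC
      let sq : Subgroup P := Subgroup.closure {g | ∃ h : P, g = h * h}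
      have hsqC : sq ≤ C := by
        rw [Subgroup.closure_le]
        rintro _ ⟨h, rfl⟩
        obtain ⟨e, he, r, hr, rfl⟩ := hprod h
        rw [SetLike.mem_coe, (hcomm e he r hr).symm.mul_mul_mul_comm]
        exact C.mul_mem (by rcases hEsq e he with h' | h' <;> rw [h']; exacts [C.one_mem, hzC]) (hRsq ⟨r, hr⟩)
      have hdsq : (d₀ : P) ∈ sq := by
        obtain ⟨i, hi⟩ := hdC
        rcases Int.even_or_odd i with ⟨k, rfl⟩ | ⟨k, rfl⟩
        · exact Subgroup.subset_closure ⟨(c₀ : P) ^ k, hi.symm.trans (zpow_add _ k k)⟩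
        · exfalso
          have h9 : orderOf ((c₀ : P) ^ (2 * k + 1)) ∣ 4 := by
            rw [show (c₀ : P) ^ (2 * k + 1) = (d₀ : P) from hi]
            exact orderOf_dvd_of_pow_eq_one (by rw [show (4 : ℕ) = 2 + 2 from rfl, pow_add, pow_two, hd4])
          rw [orderOf_dvd_iff_pow_eq_one, ← zpow_natCast, ← zpow_mul, ← orderOf_dvd_iff_zpow_eq_one,
            Subgroup.orderOf_coe] at h9
          obtain ⟨n, hn⟩ := IsPGroup.iff_orderOf.mp (hP.to_subgroup R) c₀
          rw [hn] at h9 h4
          obtain ⟨j, rfl⟩ : ∃ j, n = j + 3 := ⟨n - 3, by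
            have := (Nat.pow_le_pow_iff_right (by norm_num : 1 < 2)).mp (show 2 ^ 3 ≤ 2 ^ n by omega)
            omega⟩
          push_cast [pow_add] at h9
          obtain ⟨t, ht⟩ := h9
          have : (2 * k + 1) = 2 * (2 ^ j * t) := by linarith
          omega
      have hr₁ : (r₁ : P) ∉ C := fun ⟨i, hi⟩ => hr₁' ⟨i, Subtype.ext (by simpa using hi)⟩
      refine .proper (Subgroup.centralizer (sq : Set P)) (fun e => ?_) ?_ (hpair _ d₀.2 hdz _ ?_ ?_)
      · have h6 := Subgroup.mem_centralizer_iff.mp (e.symm ▸ Subgroup.mem_top (r₁ : P) :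
          (r₁ : P) ∈ Subgroup.centralizer (sq : Set P)) _ hdsq
        have h7 := hRin r₁ hr₁
        rw [← h6, mul_inv_cancel_right] at h7
        exact hd1 (by rw [← eq_inv_iff_mul_eq_one]; exact h7)
      · haveI : sq.Characteristic := CfsgLib.SymplecticTypeP.char_of_mem_iff fun φ k hk => by
          have : sq.map φ.toMonoidHom ≤ sq := by
            rw [Subgroup.map_le_iff_le_comap, Subgroup.closure_le]
            rintro _ ⟨h, rfl⟩
            exact Subgroup.subset_closure ⟨φ h, by simp⟩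
          exact this ⟨k, hk, rfl⟩
        infer_instance
      · refine Subgroup.mem_centralizer_iff.mpr fun g hg => ?_
        exact (hcomm e₄ he₄ g ((Subgroup.zpowers_le.mpr c₀.2) (hsqC hg))).eq.symm
      · exact Subgroup.mem_centralizer_iff.mpr fun g hg => (hCd g (hsqC hg)).eq

end CfsgLib.EightAbelian
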